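import Cfsg.Agent.Lib.Involutions.RankOne.Char.TwoGroup.Ctx
import Cfsg.Agent.Lib.Involutions.RankOne.Char.Mixed
import Cfsg.Agent.Lib.Involutions.RankOne.Char.Pairs

/-!
# The counting when the 2-part of `Q` is abelian
-/

set_option autoImplicit false
set_option linter.unusedSectionVars false
set_option linter.style.haveILetI false

namespace Cfsg.Agent.Involutions.RankOne.Char

open MulAction
open Cfsg.Agent.Characters
open scoped ComplexConjugate

universe u v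

variable {G : Type u} {Ω : Type v} [Group G] [MulAction G Ω] {a : Ω} {t : G}
  {Q E S O : Subgroup G} {g : G} {n : ℕ} {s : G}

local notation "H" => MulAction.stabilizer G a
local notation "D" => (MulAction.stabilizer G a ⊓ MulAction.stabilizer G (t • a))

variable [Fintype G] (sp : Split a Q E S O)

open scoped _root_.Classical in
/-- The characters of `G_a` from the counted pairs over the orbit of `lam`. -/
noncomputable def Split.afam [Fintype (MulAction.stabilizer G a)] (t : G)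
    (lam : Cfsg.IrrCharacter O) : Finset (Cfsg.IrrCharacter (MulAction.stabilizer G a)) :=
  letI := Fintype.ofFinite (Cfsg.IrrCharacter (MulAction.stabilizer G a))
  Finset.univ.filter fun x => ∃ α mu, sp.Counted t α mu ∧
    (∃ d ∈ MulAction.stabilizer G a ⊓ MulAction.stabilizer G (t • a),
      IsConjFun O d (lam : O → ℂ) (mu : O → ℂ)) ∧
    (x : MulAction.stabilizer G a → ℂ) = indQ a Q (sp.prodChar α mu : Q → ℂ)

variable [Fintype (MulAction.stabilizer G a)]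

include sp

theorem Split.mem_afam {lam : Cfsg.IrrCharacter O} {x : Cfsg.IrrCharacter H} :
    x ∈ sp.afam t lam ↔ ∃ α mu, sp.Counted t α mu ∧
      (∃ d ∈ D, IsConjFun O d (lam : O → ℂ) (mu : O → ℂ)) ∧
      (x : H → ℂ) = indQ a Q (sp.prodChar α mu : Q → ℂ) := by
  classical
  simp [Split.afam]

theorem Split.exists_centralChar (F : Frame a t Q E g n) (ω : E →* ℂˣ) :
    ∃ α : Cfsg.IrrCharacter S, sp.centralChar α = ω := by
  classical
  haveI := Fintype.ofFinite (Cfsg.IrrCharacter S)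
  by_contra h
  push Not at h
  refine Nat.cast_ne_zero.2 Nat.card_pos.ne' ((sp.mass ω).symm.trans ?_ : (Nat.card S : ℂ) = 0)
  refine mul_eq_zero_of_right _ (Finset.sum_eq_zero fun α hα => ?_)
  simp only [Finset.mem_filter] at hα
  exact absurd hα.2 (h α)

variable (hS : Cfsg.IsRankOneSetup G Ω a t Q) (F : Frame a t Q E g n)
  (hs : s ∈ Cfsg.involutionsIn (MulAction.stabilizer G a : Set G))
  (h2 : ∃ x y : G, x ≠ 1 ∧ y ≠ 1 ∧ x ≠ y ∧ x * x = 1 ∧ y * y = 1 ∧ x * y = y * x)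

include hS F hs h2

/-- With `S` abelian, every family has two members and the large value of `P`. -/
theorem Split.afam_spec [Fintype (Cfsg.IrrCharacter G)] (red : RedHyp a t E O)
    (hA : IsMulCommutative S) {lam : Cfsg.IrrCharacter O} (hlam : lam ≠ trivIrr O) :
    2 ≤ (sp.afam t lam).card ∧
      (∀ x ∈ sp.afam t lam, ∀ y ∈ sp.afam t lam, Supp a ((x : H → ℂ) - (y : H → ℂ))) ∧
      ∀ e μ, Coh a (sp.afam t lam) e μ → ∀ x ∈ sp.afam t lam,
        Pval a s (μ x : G → ℂ) ^ 2 =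
          ((2 ^ n * Nat.card ↥((MulAction.stabilizer G a ⊓ MulAction.stabilizer G (t • a)) ⊓
            Subgroup.centralizer ({s} : Set G)) * dgr lam : ℕ) : ℂ) ^ 2 := by
  classical
  haveI := Fintype.ofFinite (Cfsg.IrrCharacter H)
  have hdeg : ∀ α : Cfsg.IrrCharacter S, dgr α = 1 := fun α => by
    have h := irr_degree_one_of_comm (fun x y => hA.is_comm.comm x y) α.2
    rw [dgr_spec] at h
    exact_mod_cast h
  have hdmu : ∀ {d : G} {mu : Cfsg.IrrCharacter O}, IsConjFun O d (lam : O → ℂ) (mu : O → ℂ) →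
      dgr mu = dgr lam := fun {d mu} h => by
    have := h 1 1 (by simp)
    rw [dgr_spec, dgr_spec] at this
    exact_mod_cast this.symm
  have hmem : ∀ {α : Cfsg.IrrCharacter S} (h : sp.Counted t α lam),
      sp.psi hS h.reg ∈ sp.afam t lam := fun {α} h =>
    sp.mem_afam.2 ⟨α, lam, h, ⟨1, one_mem _, IsConjFun.one _⟩, rfl⟩
  have hsupp : ∀ x ∈ sp.afam t lam, ∀ y ∈ sp.afam t lam,
      Supp a ((x : H → ℂ) - (y : H → ℂ)) := by
    intro x hx y hy
    obtain ⟨α, mu, -, ⟨d, -, hd⟩, ex⟩ := sp.mem_afam.1 hx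
    obtain ⟨α', mu', -, ⟨d', -, hd'⟩, ey⟩ := sp.mem_afam.1 hy
    rw [ex, ey]
    simpa using sp.supp_diff hS α α' mu mu' 1 (by rw [hdeg, hdeg, hdmu hd, hdmu hd']; ring)
  obtain ⟨T, hT, hfix, hTmem⟩ := sp.exists_stab (sp.nilpotent_O hS h2) red hlam
  set V := (MulAction.stabilizer G a ⊓ MulAction.stabilizer G (t • a)) ⊓
    Subgroup.centralizer ({s} : Set G) with hV
  have hV0 : ((2 ^ n * Nat.card ↥V * dgr lam : ℕ) : ℂ) ≠ 0 :=
    Nat.cast_ne_zero.2 (Nat.mul_ne_zero (Nat.mul_ne_zero (Nat.two_pow_pos n).ne' Nat.card_pos.ne')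
      (dgr_pos lam).ne')
  have hsub : ∀ {α α' : Cfsg.IrrCharacter S}, sp.centralChar α = 1 → sp.centralChar α' ≠ 1 →
      indQ a Q (sp.prodChar α lam : Q → ℂ) ⟨s, hs.1⟩ -
        indQ a Q (sp.prodChar α' lam : Q → ℂ) ⟨s, hs.1⟩ = ((2 ^ n * Nat.card ↥V * dgr lam : ℕ) : ℂ) := by
    intro α α' h0 h1
    have h := sp.indQ_sub_at hS F hs (lam := lam) (lam' := lam) 1 h0 h1 (by rw [hdeg, hdeg]; ring)
    rw [Nat.cast_one, one_mul, hdeg, one_mul] at h
    exact h
  obtain ⟨ω₁, hω₁⟩ : ∃ ω : E →* ℂˣ, ω ≠ 1 := by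
    haveI := finite_hom E
    by_contra h
    push Not at h
    haveI : Subsingleton (E →* ℂˣ) := ⟨fun x y => (h x).trans (h y).symm⟩
    have h4 := F.three_le_q
    have := F.card_hom_E
    rw [Nat.card_unique, F.card_E] at this
    omega
  rcases eq_or_ne T ⊥ with hTbot | hne
  · -- no stabiliser
    have hc : ∀ α, sp.Counted t α lam := fun α => ⟨hlam, fun d hd hd1 hc => absurd
      (Subgroup.mem_bot.1 (hTbot ▸ (hTmem d).2 ⟨hd, hc⟩)) hd1⟩
    obtain ⟨α₀, hα₀⟩ := sp.exists_centralChar F 1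
    obtain ⟨α₁, hα₁⟩ := sp.exists_centralChar F ω₁
    have hv := hsub hα₀ (by rw [hα₁]; exact hω₁)
    have hvne : (sp.psi hS (hc α₀).reg : H → ℂ) ⟨s, hs.1⟩ ≠
        (sp.psi hS (hc α₁).reg : H → ℂ) ⟨s, hs.1⟩ := fun h => hV0 (by
      rw [← hv]
      exact sub_eq_zero.2 h)
    refine ⟨Finset.one_lt_card.2 ⟨_, hmem (hc α₀), _, hmem (hc α₁), fun h => hvne (by rw [h])⟩,
      hsupp, fun e μ hB x hx => ?_⟩
    rw [hB.P_sq hS hs h2 (hmem (hc α₀)) (hmem (hc α₁)) hx hvne, sp.psi_coe, sp.psi_coe, hv]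
  · -- stabiliser of prime order
    obtain ⟨hnp, hnodd, -, hTcard, hgen⟩ := (F.small_stab hS hT hfix).resolve_left hne
    obtain ⟨z, hz, hz1⟩ : ∃ z ∈ T, z ≠ 1 := by
      by_contra hh
      push Not at hh
      exact hne ((Subgroup.eq_bot_iff_forall T).2 hh)
    obtain ⟨-, hzgen, hzE⟩ := hgen z hz hz1
    have hTconj : ∀ {X : Subgroup G}, (∀ h ∈ H, ∀ x ∈ X, h * x * h⁻¹ ∈ X) →
        ∀ d ∈ T, ∀ x ∈ X, d * x * d⁻¹ ∈ X := fun hX d hd x hx => hX d (hT hd).1 x hx
    -- members avoid the trivial central character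
    have hω : ∀ {α : Cfsg.IrrCharacter S} {mu : Cfsg.IrrCharacter O} {d : G}, d ∈ D →
        IsConjFun O d (lam : O → ℂ) (mu : O → ℂ) → sp.Counted t α mu → sp.centralChar α ≠ 1 := by
      intro α mu d hd hc hcount h1
      refine hcount.2 (d⁻¹ * z * d) (mul_mem (mul_mem (inv_mem hd) (hT hz)) hd) (fun h => hz1 ?_)
        ((hc.symm.trans (sp.conj_O z (hT hz).1) ((hTmem z).1 hz).2).trans (sp.conj_O d hd.1) hc)
        (by rw [h1]; intro x y _; rfl)
      calc z = d * (d⁻¹ * z * d) * d⁻¹ := by group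
        _ = 1 := by rw [h]; group
    obtain ⟨ω, ω', hgω, hgω', hnconj⟩ := F.exists_two_good hS hT hfix hne
    obtain ⟨α, hα⟩ := sp.exists_centralChar F ω
    obtain ⟨α', hα'⟩ := sp.exists_centralChar F ω'
    have hcnt : ∀ {β : Cfsg.IrrCharacter S} {χ : E →* ℂˣ}, (∀ x ∈ T, x ≠ 1 → ¬ FixedBy E x χ) →
        sp.centralChar β = χ → sp.Counted t β lam := fun hχ hβ =>
      ⟨hlam, fun d hd hd1 hc hf => hχ d ((hTmem d).2 ⟨hd, hc⟩) hd1 (hβ ▸ hf)⟩
    have hα1 : sp.centralChar α ≠ 1 :=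
      hω (one_mem D) (IsConjFun.one _) (hcnt hgω hα)
    have hxy : sp.psi hS (hcnt hgω hα).reg ≠ sp.psi hS (hcnt hgω' hα').reg := by
      intro h
      obtain ⟨d, hd, hdS, hdO⟩ := (sp.indQ_eq_iff hS).1 (congrArg Subtype.val h)
      refine hnconj d⁻¹ (inv_mem ((hTmem d).2 ⟨hd, hdO⟩)) fun u w e => ?_
      have := (sp.centralChar_conj hdS).symm u w e
      rwa [hα, hα'] at this
    refine ⟨Finset.one_lt_card.2 ⟨_, hmem (hcnt hgω hα), _, hmem (hcnt hgω' hα'), hxy⟩,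
      hsupp, fun e μ hB => ?_⟩
    -- the fixed linear character
    haveI := finite_hom E
    have h2f := F.card_fixed_E (hT hz) hzE
    obtain ⟨χ, hχz, hχ1⟩ : ∃ χ : E →* ℂˣ, FixedBy E z χ ∧ χ ≠ 1 := by
      by_contra h
      push Not at h
      haveI : Subsingleton {χ : E →* ℂˣ // FixedBy E z χ} :=
        ⟨fun x y => Subtype.ext ((h x.1 x.2).trans (h y.1 y.2).symm)⟩
      have := Finite.card_le_one_iff_subsingleton.2 (inferInstance :
        Subsingleton {χ : E →* ℂˣ // FixedBy E z χ})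
      omega
    have hχT : ∀ d ∈ T, FixedBy E d χ := by
      intro d hd
      obtain ⟨i, rfl⟩ := Submonoid.mem_powers_iff _ _ |>.mp
        (mem_powers_iff_mem_zpowers.mpr (hzgen ▸ hd : d ∈ Subgroup.zpowers z))
      exact IsConjFun.pow (F.E_conj z (hT hz)) hχz i
    obtain ⟨αs, hαs⟩ := sp.exists_centralChar F χ
    have hαs1 : (αs : S → ℂ) 1 = 1 := by rw [dgr_spec, hdeg, Nat.cast_one]
    obtain ⟨β, hβfix, hβE⟩ := exists_fixed_ext (T := T) sp.E_le (hTconj sp.conj_S)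
      (fun d hd => F.E_conj d (hT hd)) (hTcard ▸ hnodd)
      (linearOfDegreeOne (irr_isCharacter αs) hαs1) χ
      (fun e => Units.ext (by
        rw [linearOfDegreeOne_apply, ← hαs, sp.centralChar_apply, hαs1, div_one]))
      (fun e => by
        rw [← map_mul, show e * e = 1 from Subtype.ext (AbelianCase.sq_of_mem_E hS F e.2), map_one])
      hχT
    set fstQ : Q →* S := (MonoidHom.fst S O).comp sp.equiv.symm.toMonoidHom with hfst
    have hfstv : ∀ (q : Q) (x : S) (y : O), (q : G) = x * y → fstQ q = x := fun q x y e => by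
      have : sp.equiv.symm q = (x, y) := by
        rw [MulEquiv.symm_apply_eq]; exact Subtype.ext e
      show (sp.equiv.symm q).1 = x
      rw [this]
    set w : Q →* ℂˣ := β.comp fstQ with hw
    let β' : Cfsg.IrrCharacter S := ⟨fun x => (β x : ℂ), isIrrCharacter_linear β⟩
    have hβ' : sp.centralChar β' = χ := MonoidHom.ext fun e => Units.ext (by
      rw [sp.centralChar_apply]
      show (β _ : ℂ) / (β 1 : ℂ) = _
      rw [map_one, Units.val_one, div_one, hβE])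
    have htriv : sp.centralChar (trivIrr S) = 1 := MonoidHom.ext fun e => Units.ext (by
      rw [sp.centralChar_apply]; simp)
    have hprod : (fun q : Q => (sp.prodChar (trivIrr S) lam : Q → ℂ) q * (w q : ℂ)) =
        (sp.prodChar β' lam : Q → ℂ) := funext fun q => by
      obtain ⟨x, hx, y, hy, hq⟩ := sp.exists_mul q q.2
      rw [sp.prodChar_apply (trivIrr S) lam (x := ⟨x, hx⟩) (y := ⟨y, hy⟩) hq,
        sp.prodChar_apply β' lam (x := ⟨x, hx⟩) (y := ⟨y, hy⟩) hq,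
        show w q = β ⟨x, hx⟩ from congrArg β (hfstv q ⟨x, hx⟩ ⟨y, hy⟩ hq)]
      simp [β', mul_comm]
    have hwX : ∀ d ∈ T, FixedBy Q d w := by
      intro d hd q q' e
      obtain ⟨x, hx, y, hy, hq⟩ := sp.exists_mul q q.2
      show β (fstQ q') = β (fstQ q)
      rw [hfstv q ⟨x, hx⟩ ⟨y, hy⟩ hq, hfstv q' ⟨_, hTconj sp.conj_S d hd x hx⟩
        ⟨_, hTconj sp.conj_O d hd y hy⟩ (by rw [e, hq]; group)]
      exact hβfix d hd ⟨x, hx⟩ _ rfl
    have hstabφ : ∀ (γ : Cfsg.IrrCharacter S), ∀ d ∈ D,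
        FunFixed Q d (sp.prodChar γ lam : Q → ℂ) → d ∈ T := fun γ d hd hf =>
      (hTmem d).2 ⟨hd, ((sp.prodChar_conj_iff hd.1 (sp.conj_Q hS hd)).1
        (fun x y e => hf x y e :
          IsConjFun Q d (sp.prodChar γ lam : Q → ℂ) (sp.prodChar γ lam : Q → ℂ))).2⟩
    have hφfix : ∀ d ∈ T, FunFixed Q d (sp.prodChar (trivIrr S) lam : Q → ℂ) := fun d hd x y e =>
      ((sp.prodChar_conj_iff (hT hd).1 (sp.conj_Q hS (hT hd))).2
        ⟨fun _ _ _ => by simp, ((hTmem d).1 hd).2⟩) x y e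
    have hv := hsub htriv (α' := β') (by rw [hβ']; exact hχ1)
    obtain ⟨ι, hι, ξ, ξ', hinj, hιcard, hsum, hpair, hval, hdegξ⟩ :=
      exists_pairs hS hT (hTcard ▸ hnp) (sp.prodChar (trivIrr S) lam).2 w hwX hφfix
        (hstabφ (trivIrr S)) (by rw [hprod]; exact hstabφ β') hs
        (by rw [hprod]; intro h; apply hV0; rw [← hv, h, sub_self])
    rw [hprod] at hval
    have hn0 : (n : ℂ) ≠ 0 := Nat.cast_ne_zero.2 hnp.ne_zero
    set K : ℂ := -((2 ^ n * Nat.card ↥V * dgr lam : ℕ) : ℂ) / n with hK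
    have hKv : ∀ k, (ξ k : H → ℂ) ⟨s, hs.1⟩ - (ξ' k : H → ℂ) ⟨s, hs.1⟩ = K := fun k => by
      have h := hval k
      rw [hTcard] at h
      rw [hK, eq_div_iff hn0, mul_comm, h, ← hv]; ring
    have hout : ∀ k, ξ k ∉ sp.afam t lam ∧ ξ' k ∉ sp.afam t lam := by
      intro k
      have hone : ∀ x ∈ sp.afam t lam, (x : H → ℂ) 1 = ((Nat.card ↥D * dgr lam : ℕ) : ℂ) := by
        intro x hx
        obtain ⟨γ, mu, -, ⟨d, -, hd⟩, ex⟩ := sp.mem_afam.1 hx
        rw [ex, sp.indQ_prod_one hS, hdeg, one_mul, hdmu hd]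
      obtain ⟨he, hd⟩ := hdegξ k
      rw [sp.prodChar_one, trivIrr_coe, one_mul, dgr_spec lam, ← Nat.cast_mul, hTcard] at hd
      have hbad : (ξ' k : H → ℂ) 1 ≠ ((Nat.card ↥D * dgr lam : ℕ) : ℂ) := fun h => by
        rw [h] at hd
        have hpos : 0 < Nat.card ↥D * dgr lam := Nat.mul_pos Nat.card_pos (dgr_pos lam)
        have hd' : n * (Nat.card ↥D * dgr lam) = Nat.card ↥D * dgr lam := by exact_mod_cast hd
        have := hnp.two_le
        nlinarith
      exact ⟨fun h => hbad (he.symm.trans (hone _ h)), fun h => hbad (hone _ h)⟩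
    have hx₀ := hmem (hcnt hgω hα)
    have hs0 : Supp a ((sp.psi hS (hcnt hgω hα).reg : H → ℂ) - ∑ k, (ξ' k : H → ℂ)) := by
      rw [hsum, sp.psi_coe]
      simpa using sp.supp_diff hS α (trivIrr S) lam lam 1 (by rw [hdeg, hdeg]; ring)
    have hconst : ∀ x ∈ sp.afam t lam, ∀ y ∈ sp.afam t lam,
        (x : H → ℂ) ⟨s, hs.1⟩ = (y : H → ℂ) ⟨s, hs.1⟩ := by
      intro x hx y hy
      obtain ⟨γ, mu, hc, ⟨d, hdD, hd⟩, ex⟩ := sp.mem_afam.1 hx
      obtain ⟨γ', mu', hc', ⟨d', hdD', hd'⟩, ey⟩ := sp.mem_afam.1 hy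
      rw [ex, ey]
      exact sp.indQ_at_eq hS F hs (iff_of_false (hω hdD hd hc) (hω hdD' hd' hc'))
        (by rw [hdeg, hdeg, hdmu hd, hdmu hd'])
    have hval0 : (sp.psi hS (hcnt hgω hα).reg : H → ℂ) ⟨s, hs.1⟩ -
        ∑ k, (ξ' k : H → ℂ) ⟨s, hs.1⟩ = (Fintype.card ι : ℂ) * K := by
      rw [← Finset.sum_apply, hsum, sp.psi_coe, hιcard, hTcard, hK, mul_div_cancel₀ _ hn0,
        ← hsub htriv hα1]
      ring
    intro x hx
    rw [hB.mixed_P_sq hS hs h2 hconst ξ ξ' hinj hout hpair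
      (div_ne_zero (neg_ne_zero.2 hV0) hn0) hKv hx₀ hs0 hval0 x hx, hιcard, hTcard,
      mul_div_cancel₀ _ hn0, neg_sq]

/-- With `S` abelian the odd part of `Q` is trivial. -/
theorem Split.false_of_abelian [Fintype (Cfsg.IrrCharacter G)] (red : RedHyp a t E O) (hO : O ≠ ⊥)
    (hA : IsMulCommutative S) : False := by
  classical
  haveI := Fintype.ofFinite (Cfsg.IrrCharacter H)
  choose e μ hcoh using fun (lam : Cfsg.IrrCharacter O) (hlam : lam ≠ trivIrr O) =>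
    exists_coh hS (sp.afam t lam) (sp.afam_spec hS F hs h2 red hA hlam).1
      (sp.afam_spec hS F hs h2 red hA hlam).2.1
  let μB : Finset (Cfsg.IrrCharacter H) → Cfsg.IrrCharacter H → Cfsg.IrrCharacter G := fun B =>
    if h : ∃ lam : {lam : Cfsg.IrrCharacter O // lam ≠ trivIrr O}, sp.afam t lam.1 = B
    then μ h.choose.1 h.choose.2 else fun _ => trivIrr G
  have hμB : ∀ lam, lam ≠ trivIrr O →
      ∃ e', Coh a (sp.afam t lam) e' (μB (sp.afam t lam)) := by
    intro lam hlam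
    have h : ∃ l : {l : Cfsg.IrrCharacter O // l ≠ trivIrr O}, sp.afam t l.1 = sp.afam t lam :=
      ⟨⟨lam, hlam⟩, rfl⟩
    refine ⟨e h.choose.1 h.choose.2, ?_⟩
    simp only [μB, dif_pos h]
    conv => arg 2; rw [← h.choose_spec]
    exact hcoh _ h.choose.2
  have hdeg : ∀ α : Cfsg.IrrCharacter S, dgr α = 1 := fun α => by
    have h := irr_degree_one_of_comm (fun x y => hA.is_comm.comm x y) α.2
    rw [dgr_spec] at h
    exact_mod_cast h
  have hmem : ∀ {α : Cfsg.IrrCharacter S} {lam : Cfsg.IrrCharacter O} (h : sp.Counted t α lam),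
      sp.psi hS h.reg ∈ sp.afam t lam := fun {α lam} h =>
    sp.mem_afam.2 ⟨α, lam, h, ⟨1, one_mem _, IsConjFun.one _⟩, rfl⟩
  refine sp.false_of_map hS F hs h2 red hO
    (fun α lam hc => μB (sp.afam t lam) (sp.psi hS hc.reg)) (fun α lam hc => ?_)
    fun α lam hc α' lam' hc' heq => ?_
  · obtain ⟨e', he'⟩ := hμB lam hc.1
    rw [hdeg, one_mul]
    exact (sp.afam_spec hS F hs h2 red hA hc.1).2.2 _ _ he' _ (hmem hc)
  · obtain ⟨e1, he1⟩ := hμB lam hc.1
    obtain ⟨e2, he2⟩ := hμB lam' hc'.1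
    by_cases hB : sp.afam t lam = sp.afam t lam'
    · simp only [← hB] at heq
      exact congrArg Subtype.val (he1.inj (hmem hc) (hB ▸ hmem hc') heq)
    · exfalso
      refine he1.disjoint hS he2 ?_ (hmem hc) (hmem hc') heq
      rw [Finset.disjoint_left]
      intro x hx hx'
      obtain ⟨γ, mu, -, ⟨d, hd, hc1⟩, ex⟩ := sp.mem_afam.1 hx
      obtain ⟨γ', mu', -, ⟨d', hd', hc1'⟩, ex'⟩ := sp.mem_afam.1 hx'
      obtain ⟨k, hk, -, hkO⟩ := (sp.indQ_eq_iff hS).1 (ex.symm.trans ex')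
      have hrel : IsConjFun O (d * k * d'⁻¹) (lam : O → ℂ) (lam' : O → ℂ) :=
        (hc1.trans (sp.conj_O k hk.1) hkO).trans (sp.conj_O d'⁻¹ (inv_mem hd'.1)) hc1'.symm
      set m := d * k * d'⁻¹
      have hm : m ∈ D := mul_mem (mul_mem hd hk) (inv_mem hd')
      refine hB (Finset.ext fun y => ?_)
      rw [sp.mem_afam, sp.mem_afam]
      constructor
      · rintro ⟨β, nu, h1, ⟨r, hr, h3⟩, h4⟩
        exact ⟨β, nu, h1, ⟨m⁻¹ * r, mul_mem (inv_mem hm) hr,
          hrel.symm.trans (sp.conj_O r hr.1) h3⟩, h4⟩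
      · rintro ⟨β, nu, h1, ⟨r, hr, h3⟩, h4⟩
        exact ⟨β, nu, h1, ⟨m * r, mul_mem hm hr, hrel.trans (sp.conj_O r hr.1) h3⟩, h4⟩

end Cfsg.Agent.Involutions.RankOne.Char
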