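import Cfsg.Agent.Lib.Involutions.RankOne.Char.Families

/-!
# Targets over families: their constituents are distinct
-/

set_option autoImplicit false
set_option linter.unusedSectionVars false

namespace Cfsg.Agent.Involutions.RankOne.Char

open MulAction
open Cfsg.Agent.Characters
open scoped ComplexConjugate

universe u v

variable {G : Type u} {Ω : Type v} [Group G] [MulAction G Ω] {a : Ω} {t : G} {Q : Subgroup G}
  [Fintype G] [Fintype (Cfsg.IrrCharacter G)] [Fintype (MulAction.stabilizer G a)] {s : G}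
  (hS : Cfsg.IsRankOneSetup G Ω a t Q)
  {B B' : Finset (Cfsg.IrrCharacter (MulAction.stabilizer G a))} {e e' : ℤ}
  {μ μ' : Cfsg.IrrCharacter (MulAction.stabilizer G a) → Cfsg.IrrCharacter G}
  {x₀ x₀' ψ ψ' : Cfsg.IrrCharacter (MulAction.stabilizer G a)} {α α' : ℕ}
  {Δ Δ' : Cfsg.IrrCharacter G} {z z' : Cfsg.IrrCharacter G → ℤ} {c c' : ℤ}

local notation "H" => MulAction.stabilizer G a

include hS

/-- A target avoids the images of the other families. -/
theorem IsTarget.ne_base (hB : Coh a B e μ) (hB' : Coh a B' e' μ') (hd : Disjoint B B')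
    (hT : IsTarget a s B e μ x₀ ψ α Δ z c) (hx₀ : x₀ ∈ B) (hψ : ψ ∉ B')
    (hf : Supp a ((ψ : H → ℂ) - (α : ℂ) • (x₀ : H → ℂ))) : ∀ x ∈ B', μ' x ≠ Δ := by
  classical
  intro x hx hq
  obtain ⟨y, hy, hyx⟩ := hB'.exists_ne x
  have hne : ∀ {u}, u ∈ B' → ψ ≠ u ∧ x₀ ≠ u := fun hu =>
    ⟨fun q => hψ (q ▸ hu), fun q => Finset.disjoint_left.1 hd hx₀ (q ▸ hu)⟩
  have h := hB'.coef_eq hS hx hy hT.coef hf (w := 0) (by
    simp [classInner_sub_left, classInner_sub_right, classInner_smul_left, classInner_irr,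
      hne hx, hne hy])
  have h0 : z (μ' y) = 0 := hT.apply_other _
    (fun q => hyx (hB'.inj hy hx (q.trans hq.symm))) fun x' hx' => hB.disjoint hS hB' hd hx' hy
  rw [hq, h0] at h
  rcases hT.apply_delta with q | q <;> omega

/-- Two targets over one family are distinct. -/
theorem IsTarget.ne_same (hB : Coh a B e μ) (hT : IsTarget a s B e μ x₀ ψ α Δ z c)
    (hT' : IsTarget a s B e μ x₀ ψ' α' Δ' z' c') (hx₀ : x₀ ∈ B) (hψ : ψ ∉ B) (hψ' : ψ' ∉ B)
    (hne : ψ ≠ ψ') (hf : Supp a ((ψ : H → ℂ) - (α : ℂ) • (x₀ : H → ℂ)))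
    (hf' : Supp a ((ψ' : H → ℂ) - (α' : ℂ) • (x₀ : H → ℂ))) (hα : 2 ≤ α) (hα' : 2 ≤ α') :
    Δ ≠ Δ' := by
  classical
  rintro rfl
  have h := hT.coef.inner hS hT'.coef hf hf'
  have hv : Cfsg.classInner ((ψ : H → ℂ) - (α : ℂ) • (x₀ : H → ℂ))
      ((ψ' : H → ℂ) - (α' : ℂ) • (x₀ : H → ℂ)) = (((α : ℤ) * α' : ℤ) : ℂ) := by
    have h0 : ψ ≠ x₀ ∧ x₀ ≠ ψ' := ⟨fun q => hψ (q ▸ hx₀), fun q => hψ' (q ▸ hx₀)⟩
    simp [classInner_sub_left, classInner_sub_right, classInner_smul_left, classInner_smul_right,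
      classInner_irr, hne, h0, mul_comm (α' : ℂ)]
  rw [hv, Int.cast_inj] at h
  have hΔ : Δ ∉ B.image μ := fun q => by
    obtain ⟨x, hx, hq⟩ := Finset.mem_image.1 q
    exact hT.notMem x hx hq
  have hsum : ∑ χ, z χ * z' χ = z Δ * z' Δ +
      ((c - e * α) * (c' - e * α') + ((B.card : ℤ) - 1) * (c * c')) := by
    rw [← Finset.sum_subset (Finset.subset_univ (insert Δ (B.image μ))), Finset.sum_insert hΔ,
      Finset.sum_image hB.inj, ← Finset.add_sum_erase B _ hx₀, hT.apply_base, hT'.apply_base,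
      Finset.sum_congr rfl (g := fun _ => c * c') (fun x hx => by
        rw [hT.apply_mem x (Finset.mem_of_mem_erase hx) (Finset.ne_of_mem_erase hx),
          hT'.apply_mem x (Finset.mem_of_mem_erase hx) (Finset.ne_of_mem_erase hx)]),
      Finset.sum_const, Finset.card_erase_of_mem hx₀, nsmul_eq_mul,
      Nat.cast_sub (Finset.card_pos.2 ⟨x₀, hx₀⟩ : 1 ≤ B.card), Nat.cast_one]
    intro χ _ hχ
    simp only [Finset.mem_insert, Finset.mem_image, not_or, not_exists, not_and] at hχ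
    rw [hT.apply_other χ hχ.1 hχ.2, zero_mul]
  rw [hsum] at h
  have hee := hB.sign_sq
  have key : z Δ * z' Δ = e * α * c' + e * α' * c - (B.card : ℤ) * (c * c') := by
    linear_combination -h - ((α : ℤ) * α') * hee
  have h1 : z Δ * z' Δ = 1 ∨ z Δ * z' Δ = -1 := by
    rcases hT.apply_delta with q | q <;> rcases hT'.apply_delta with r | r <;> simp [q, r]
  rcases hT.shift with hc | ⟨hc, hm⟩ <;> rcases hT'.shift with hc' | ⟨hc', hm'⟩ <;>
    rw [hc, hc'] at key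
  · rcases h1 with q | q <;> rw [q] at key <;> simp at key
  · rw [show e * (α : ℤ) * e + e * α' * 0 - (B.card : ℤ) * (0 * e) = α by
      linear_combination (α : ℤ) * hee] at key
    omega
  · rw [show e * (α : ℤ) * 0 + e * α' * e - (B.card : ℤ) * (e * 0) = α' by
      linear_combination (α' : ℤ) * hee] at key
    omega
  · rw [show e * (α : ℤ) * e + e * α' * e - (B.card : ℤ) * (e * e) = α + α' - B.card by
      linear_combination ((α : ℤ) + α' - B.card) * hee] at key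
    omega

/-- Targets over disjoint families are distinct. -/
theorem IsTarget.ne_disjoint (hB : Coh a B e μ) (hB' : Coh a B' e' μ') (hd : Disjoint B B')
    (hT : IsTarget a s B e μ x₀ ψ α Δ z c) (hT' : IsTarget a s B' e' μ' x₀' ψ' α' Δ' z' c')
    (hx₀ : x₀ ∈ B) (hx₀' : x₀' ∈ B') (hψ : ψ ∉ B') (hψ' : ψ' ∉ B) (hne : ψ ≠ ψ')
    (hf : Supp a ((ψ : H → ℂ) - (α : ℂ) • (x₀ : H → ℂ)))
    (hf' : Supp a ((ψ' : H → ℂ) - (α' : ℂ) • (x₀' : H → ℂ))) : Δ ≠ Δ' := by
  classical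
  rintro rfl
  have h := hT.coef.inner hS hT'.coef hf hf'
  have hv : Cfsg.classInner ((ψ : H → ℂ) - (α : ℂ) • (x₀ : H → ℂ))
      ((ψ' : H → ℂ) - (α' : ℂ) • (x₀' : H → ℂ)) = ((0 : ℤ) : ℂ) := by
    have h0 : ψ ≠ x₀' ∧ x₀ ≠ ψ' ∧ x₀ ≠ x₀' := ⟨fun q => hψ (q ▸ hx₀'), fun q => hψ' (q ▸ hx₀),
      fun q => Finset.disjoint_left.1 hd hx₀ (q ▸ hx₀')⟩
    simp [classInner_sub_left, classInner_sub_right, classInner_smul_left, classInner_smul_right,
      classInner_irr, hne, h0]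
  rw [hv, Int.cast_inj, Finset.sum_eq_single Δ (fun χ _ hχ => ?_)
    (fun q => absurd (Finset.mem_univ Δ) q)] at h
  · rcases hT.apply_delta with q | q <;> rcases hT'.apply_delta with r | r <;> simp [q, r] at h
  · by_cases hχB : ∀ x ∈ B, μ x ≠ χ
    · rw [hT.apply_other χ hχ hχB, zero_mul]
    · push Not at hχB
      obtain ⟨x, hx, rfl⟩ := hχB
      rw [hT'.apply_other (μ x) hχ fun x' hx' => (hB.disjoint hS hB' hd hx hx').symm, mul_zero]

end Cfsg.Agent.Involutions.RankOne.Char
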