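import Cfsg.Agent.Lib.Involutions.RankOne.Char.TwoGroup.SuzukiFam
import Cfsg.Agent.Lib.Involutions.RankOne.Char.TwoGroup.Separate
import Cfsg.Agent.Lib.Involutions.RankOne.Char.TwoGroup.Abelian

/-!
# The counting when the 2-part of `Q` is a Suzuki 2-group
-/

set_option autoImplicit false
set_option linter.unusedSectionVars false
set_option linter.style.haveILetI false

namespace Cfsg.Agent.Involutions.RankOne.Char

open MulAction
open Cfsg.Agent.Characters
open scoped ComplexConjugate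

universe u v

variable {G : Type u} {Ω : Type v} [Group G] [MulAction G Ω] {a : Ω} {t : G}
  {Q E S O : Subgroup G} {g : G} {n : ℕ} {s : G}

local notation "H" => MulAction.stabilizer G a
local notation "D" => (MulAction.stabilizer G a ⊓ MulAction.stabilizer G (t • a))

variable [Fintype G] [Fintype (MulAction.stabilizer G a)] [Fintype (Cfsg.IrrCharacter G)]
  (sp : Split a Q E S O) (hS : Cfsg.IsRankOneSetup G Ω a t Q) (F : Frame a t Q E g n)
  (hs : s ∈ Cfsg.involutionsIn (MulAction.stabilizer G a : Set G))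
  (h2 : ∃ x y : G, x ≠ 1 ∧ y ≠ 1 ∧ x ≠ y ∧ x * x = 1 ∧ y * y = 1 ∧ x * y = y * x)

include sp hS F hs h2

/-- With `S` a Suzuki 2-group the odd part of `Q` is trivial. -/
theorem Split.false_of_suzuki (red : RedHyp a t E O) (hO : O ≠ ⊥)
    (hP : Cfsg.IsSuzukiTwoGroup S) : False := by
  classical
  haveI := Fintype.ofFinite (Cfsg.IrrCharacter H)
  let B : Cfsg.IrrCharacter O → Finset (Cfsg.IrrCharacter H) := fun lam => sp.bfam t lam
  -- data chosen per finset
  let cB : Finset (Cfsg.IrrCharacter H) → ℤ × (Cfsg.IrrCharacter H → Cfsg.IrrCharacter G) :=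
    fun B => if h : ∃ e μ, Coh a B e μ then (h.choose, h.choose_spec.choose)
      else (1, fun _ => trivIrr G)
  let x₀ : Finset (Cfsg.IrrCharacter H) → Cfsg.IrrCharacter H :=
    fun B => if h : B.Nonempty then h.choose else trivIrr H
  have hcoh : ∀ lam, lam ≠ trivIrr O → Coh a (B lam) (cB (B lam)).1 (cB (B lam)).2 := by
    intro lam hlam
    obtain ⟨-, htwo, -, hsupp, -, -⟩ := sp.bfam_spec hS F hs h2 red hP hlam
    have h : ∃ e μ, Coh a (B lam) e μ := exists_coh hS _ htwo hsupp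
    simp only [cB, dif_pos h]
    exact h.choose_spec.choose_spec
  have hx₀ : ∀ lam, lam ≠ trivIrr O → x₀ (B lam) ∈ B lam := by
    intro lam hlam
    have h : (B lam).Nonempty :=
      Finset.card_pos.1 (lt_of_lt_of_le two_pos (sp.bfam_spec hS F hs h2 red hP hlam).2.1)
    simp only [x₀, dif_pos h]
    exact h.choose_spec
  have hlin : ∀ {α : Cfsg.IrrCharacter S}, sp.centralChar α = 1 ↔ dgr α = 1 := fun {α} => by
    rw [sp.centralChar_eq_one_iff hS F hP, dgr_spec, Nat.cast_eq_one]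
  set V := (MulAction.stabilizer G a ⊓ MulAction.stabilizer G (t • a)) ⊓
    Subgroup.centralizer ({s} : Set G) with hV
  -- members of a family
  have hbase : ∀ lam, lam ≠ trivIrr O → ∀ x ∈ B lam, ∃ β mu, dgr β = 1 ∧ dgr mu = dgr lam ∧
      (x : H → ℂ) = indQ a Q (sp.prodChar β mu : Q → ℂ) := by
    intro lam hlam x hx
    have hone := (sp.bfam_spec hS F hs h2 red hP hlam).2.2.2.2.2 x hx
    obtain ⟨β, mu, hβ, -, -, ex⟩ := sp.mem_bfam.1 hx
    rw [ex, sp.indQ_prod_one hS, hβ, one_mul, Nat.cast_inj] at hone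
    exact ⟨β, mu, hβ, Nat.eq_of_mul_eq_mul_left Nat.card_pos hone, ex⟩
  have hout : ∀ {α lam} (hc : sp.Counted t α lam), sp.centralChar α ≠ 1 → ∀ lam',
      sp.psi hS hc.reg ∉ B lam' := by
    intro α lam hc hω lam' hmem
    obtain ⟨β, mu, hβ, -, -, ex⟩ := sp.mem_bfam.1 hmem
    rw [sp.psi_coe] at ex
    obtain ⟨d, -, hdS, -⟩ := (sp.indQ_eq_iff hS).1 ex
    exact hω (hlin.2 (hdS.dgr_eq.symm.trans hβ))
  have hsupp : ∀ {α lam} (hc : sp.Counted t α lam),
      Supp a ((sp.psi hS hc.reg : H → ℂ) - (dgr α : ℂ) • (x₀ (B lam) : H → ℂ)) := by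
    intro α lam hc
    obtain ⟨β, mu, hβ, hmu, ex⟩ := hbase lam hc.1 _ (hx₀ lam hc.1)
    rw [ex, sp.psi_coe]
    exact sp.supp_diff hS α β lam mu (dgr α) (by rw [hβ, hmu, one_mul])
  -- the targets
  have key : ∀ {α lam} (hc : sp.Counted t α lam), sp.centralChar α ≠ 1 →
      ∃ Δ z c, IsTarget a s (B lam) (cB (B lam)).1 (cB (B lam)).2 (x₀ (B lam)) (sp.psi hS hc.reg)
          (dgr α) Δ z c ∧
        Pval a s (Δ : G → ℂ) ^ 2 = ((2 ^ n * Nat.card ↥V * (dgr α * dgr lam) : ℕ) : ℂ) ^ 2 ∧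
        ∀ x ∈ B lam, Pval a s ((cB (B lam)).2 x : G → ℂ) ^ 2 * (dgr α : ℂ) ^ 2 =
          ((2 ^ n * Nat.card ↥V * (dgr α * dgr lam) : ℕ) : ℂ) ^ 2 := by
    intro α lam hc hω
    obtain ⟨hev, -, hcard, -, hconst, -⟩ := sp.bfam_spec hS F hs h2 red hP hc.1
    obtain ⟨β, mu, hβ, hmu, ex⟩ := hbase lam hc.1 _ (hx₀ lam hc.1)
    have hv := sp.indQ_sub_at hS F hs (α := β) (lam := mu) (α' := α) (lam' := lam) (dgr α)
      (hlin.2 hβ) hω (by rw [hβ, hmu, one_mul])
    have hval : (sp.psi hS hc.reg : H → ℂ) ⟨s, hs.1⟩ -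
        (dgr α : ℂ) * (x₀ (B lam) : H → ℂ) ⟨s, hs.1⟩ =
          -((2 ^ n * Nat.card ↥V * (dgr α * dgr lam) : ℕ) : ℂ) := by
      rw [← hv, ex, sp.psi_coe, neg_sub]
    have hne : ((2 ^ n * Nat.card ↥V * (dgr α * dgr lam) : ℕ) : ℂ) ≠ 0 :=
      Nat.cast_ne_zero.2 (Nat.mul_ne_zero (Nat.mul_ne_zero (Nat.two_pow_pos n).ne' Nat.card_pos.ne')
        (Nat.mul_ne_zero (dgr_pos α).ne' (dgr_pos lam).ne'))
    obtain ⟨Δ, z, c, hT, hPΔ, hPB⟩ := exists_target hS hs h2 (hcoh lam hc.1) hconst (hx₀ lam hc.1)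
      (hout hc hω lam) (dgr_pos α) (hsupp hc) (by rw [hval]; exact neg_ne_zero.2 hne) hev (hcard α)
    rw [hval, neg_sq] at hPΔ hPB
    exact ⟨Δ, z, c, hT, hPΔ, hPB⟩
  choose Δ z c hT hPΔ hPB using @key
  have hmem : ∀ {α lam} (hc : sp.Counted t α lam), sp.centralChar α = 1 →
      sp.psi hS hc.reg ∈ B lam := fun {α lam} hc hω =>
    sp.mem_bfam.2 ⟨α, lam, hlin.1 hω, hc.reg, ⟨1, one_mem _, Or.inl (IsConjFun.one _)⟩, rfl⟩
  have hdisj : ∀ lam lam', B lam = B lam' ∨ Disjoint (B lam) (B lam') :=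
    fun lam lam' => sp.bfam_eq_or_disjoint hS lam lam'
  -- a base character never is a target
  have hbt : ∀ {α lam α' lam'} (hc : sp.Counted t α lam) (hω : sp.centralChar α = 1)
      (hc' : sp.Counted t α' lam') (hω' : sp.centralChar α' ≠ 1),
      (cB (B lam)).2 (sp.psi hS hc.reg) ≠ Δ hc' hω' := by
    intro α lam α' lam' hc hω hc' hω'
    rcases hdisj lam' lam with h | h
    · rw [← h]
      exact (hT hc' hω').notMem _ (h ▸ hmem hc hω)
    · exact (hT hc' hω').ne_base hS (hcoh lam' hc'.1) (hcoh lam hc.1) h (hx₀ lam' hc'.1)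
        (hout hc' hω' lam) (hsupp hc') _ (hmem hc hω)
  refine sp.false_of_map hS F hs h2 red hO
    (fun α lam hc => if hω : sp.centralChar α = 1 then (cB (B lam)).2 (sp.psi hS hc.reg)
      else Δ hc hω) (fun α lam hc => ?_) fun α lam hc α' lam' hc' heq => ?_
  · split_ifs with hω
    · obtain ⟨ω₁, hω₁⟩ : ∃ ω : E →* ℂˣ, ω ≠ 1 := by
        haveI := finite_hom E
        by_contra h
        push Not at h
        haveI : Subsingleton (E →* ℂˣ) := ⟨fun x y => (h x).trans (h y).symm⟩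
        have h4 := F.three_le_q
        have := F.card_hom_E
        rw [Nat.card_unique, F.card_E] at this
        omega
      obtain ⟨α₁, hα₁⟩ := sp.exists_centralChar F ω₁
      have hc₁ : sp.Counted t α₁ lam := ⟨hc.1, fun d hd hd1 hfix _ =>
        hc.2 d hd hd1 hfix (by rw [hω]; intro x y _; rfl)⟩
      have h := hPB hc₁ (by rw [hα₁]; exact hω₁) _ (hmem hc hω)
      rw [hlin.1 hω, one_mul]
      refine mul_right_cancel₀ (pow_ne_zero 2 (Nat.cast_ne_zero.2 (dgr_pos α₁).ne' : (dgr α₁ : ℂ) ≠ 0)) ?_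
      rw [h]
      push_cast
      ring
    · exact hPΔ hc hω
  · by_cases hω : sp.centralChar α = 1 <;> by_cases hω' : sp.centralChar α' = 1
    · rw [dif_pos hω, dif_pos hω'] at heq
      rcases hdisj lam lam' with h | h
      · rw [← h] at heq
        exact congrArg Subtype.val ((hcoh lam hc.1).inj (hmem hc hω) (h ▸ hmem hc' hω') heq)
      · exact absurd heq
          ((hcoh lam hc.1).disjoint hS (hcoh lam' hc'.1) h (hmem hc hω) (hmem hc' hω'))
    · rw [dif_pos hω, dif_neg hω'] at heq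
      exact absurd heq (hbt hc hω hc' hω')
    · rw [dif_neg hω, dif_pos hω'] at heq
      exact absurd heq.symm (hbt hc' hω' hc hω)
    · rw [dif_neg hω, dif_neg hω'] at heq
      by_contra hne
      have hne' : sp.psi hS hc.reg ≠ sp.psi hS hc'.reg := fun e => hne (congrArg Subtype.val e)
      have two : ∀ {γ : Cfsg.IrrCharacter S}, sp.centralChar γ ≠ 1 → 2 ≤ dgr γ := fun {γ} hγ => by
        have := dgr_pos γ
        have : dgr γ ≠ 1 := fun e => hγ (hlin.2 e)
        omega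
      rcases hdisj lam lam' with h | h
      · have hT' := hT hc' hω'
        have hs' := hsupp hc'
        rw [← h] at hT' hs'
        exact (hT hc hω).ne_same hS (hcoh lam hc.1) hT' (hx₀ lam hc.1) (hout hc hω lam)
          (hout hc' hω' lam) hne' (hsupp hc) hs' (two hω) (two hω') heq
      · exact (hT hc hω).ne_disjoint hS (hcoh lam hc.1) (hcoh lam' hc'.1) h (hT hc' hω')
          (hx₀ lam hc.1) (hx₀ lam' hc'.1) (hout hc hω lam') (hout hc' hω' lam) hne' (hsupp hc)
          (hsupp hc') heq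

end Cfsg.Agent.Involutions.RankOne.Char
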