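import Cfsg.Agent.Lib.Involutions.RankOne.Char.Psi
import Cfsg.Agent.Lib.Involutions.RankOne.Char.AbelianLocal

/-!
# The values at an involution and the counting bound
-/

set_option autoImplicit false
set_option linter.unusedSectionVars false

namespace Cfsg.Agent.Involutions.RankOne.Char

open MulAction Involutions.Basic
open Cfsg.Agent.Characters
open AbelianCase (card_D_eq card_cent_eq)

universe u v w

variable {G : Type u} {Ω : Type v} [Group G] [Fintype G] [MulAction G Ω] {a : Ω} {t : G}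
  {Q E : Subgroup G} {g : G} {n : ℕ} {s : G}

local notation "H" => MulAction.stabilizer G a
local notation "D" => (MulAction.stabilizer G a ⊓ MulAction.stabilizer G (t • a))
variable (hS : Cfsg.IsRankOneSetup G Ω a t Q) (F : Frame a t Q E g n)
  (hs : s ∈ Cfsg.involutionsIn (MulAction.stabilizer G a : Set G))

include hS F hs

/-- The two values at `s` differ by `q |V| φ(1)`. -/
theorem indQ_diff [Fintype H] {φ φ' : Q → ℂ} {w : E →* ℂˣ}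
    (hφ : ∀ (e : E) (hq : (e : G) ∈ Q), φ ⟨e, hq⟩ = φ 1)
    (hφ' : ∀ (e : E) (hq : (e : G) ∈ Q), φ' ⟨e, hq⟩ = φ' 1 * (w e : ℂ)) (hw : w ≠ 1) (c : ℂ)
    (h1 : φ' 1 = c * φ 1) :
    c * indQ a Q φ ⟨s, hs.1⟩ - indQ a Q φ' ⟨s, hs.1⟩ =
      (((2 : ℕ) ^ n * Nat.card ↥((MulAction.stabilizer G a ⊓ MulAction.stabilizer G (t • a)) ⊓ Subgroup.centralizer ({s} : Set G)) : ℕ) : ℂ) * φ' 1 := by
  have e1 := indQ_at hS F (φ := φ) (w := 1) (fun e hq => by simp [hφ e hq]) hs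
  rw [if_pos rfl] at e1
  have e2 := indQ_at hS F hφ' hs
  rw [if_neg hw] at e2
  have hD := card_D_eq hS F ((F.mem_E s).2 (Or.inr hs)) hs.2.1
  have h4 := F.three_le_q
  have hq1 : (((2 : ℕ) ^ n - 1 : ℕ) : ℂ) ≠ 0 := Nat.cast_ne_zero.2 (by omega)
  have hq : (((2 : ℕ) ^ n - 1 : ℕ) : ℂ) + 1 = (((2 : ℕ) ^ n : ℕ) : ℂ) := by
    exact_mod_cast Nat.sub_add_cancel (show 1 ≤ 2 ^ n by omega)
  have hDc : (Nat.card ↥D : ℂ) = (((2 : ℕ) ^ n - 1 : ℕ) : ℂ) * (Nat.card ↥((MulAction.stabilizer G a ⊓ MulAction.stabilizer G (t • a)) ⊓ Subgroup.centralizer ({s} : Set G)) : ℂ) := by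
    rw [hD, Nat.cast_mul]
  apply mul_left_cancel₀ hq1
  rw [Nat.cast_mul, ← hq]
  rw [hDc] at e1 e2
  linear_combination c * e1 - e2 -
    (((2 : ℕ) ^ n - 1 : ℕ) : ℂ) * (((2 : ℕ) ^ n - 1 : ℕ) : ℂ) * (Nat.card ↥((MulAction.stabilizer G a ⊓ MulAction.stabilizer G (t • a)) ⊓ Subgroup.centralizer ({s} : Set G)) : ℂ) * h1

omit hS F hs in
/-- The arithmetic contradiction. -/
theorem arith_false {q S m R : ℕ} (hq : 4 ≤ q) (hS : q ≤ S) (hm : 2 * q - 1 ≤ m)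
    (hR : (q - 2) * (m - 1) * S ≤ q * R) (hR4 : q = 4 → (m - 1) * S ≤ R) (h8 : q = 4 ∨ 8 ≤ q)
    (hle : (q : ℝ) ^ 2 * R ≤ 4 * ((q : ℝ) - 1) * ((S : ℝ) * m) + ((q : ℝ) - 2) ^ 2) : False := by
  have hqR : (4 : ℝ) ≤ q := by exact_mod_cast hq
  have hSR : (q : ℝ) ≤ S := by exact_mod_cast hS
  have hmR : 2 * (q : ℝ) - 1 ≤ m := by
    have : (2 * q : ℕ) ≤ m + 1 := by omega
    have h' : ((2 * q : ℕ) : ℝ) ≤ ((m + 1 : ℕ) : ℝ) := by exact_mod_cast this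
    push_cast at h'
    linarith
  rcases h8 with rfl | h8
  · have h : ((m - 1 : ℕ) : ℝ) * S ≤ R := by exact_mod_cast hR4 rfl
    rw [Nat.cast_sub (by omega), Nat.cast_one] at h
    have hS4 : (4 : ℝ) ≤ S := by exact_mod_cast hS
    have hm7 : (7 : ℝ) ≤ m := by exact_mod_cast (show 7 ≤ m by omega)
    norm_num at hle
    nlinarith
  · have h : ((q - 2 : ℕ) : ℝ) * ((m - 1 : ℕ) : ℝ) * S ≤ (q : ℝ) * R := by exact_mod_cast hR
    rw [Nat.cast_sub (by omega : 2 ≤ q), Nat.cast_sub (by omega : 1 ≤ m)] at h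
    push_cast at h
    have h8R : (8 : ℝ) ≤ q := by exact_mod_cast h8
    have h20 : (20 : ℝ) ≤ (q : ℝ) ^ 2 - 6 * q + 4 := by nlinarith
    have hA : 2 * ((q : ℝ) - 1) * ((q : ℝ) ^ 2 - 6 * q + 4) ≤ ((m : ℝ) - 1) * ((q : ℝ) ^ 2 - 6 * q + 4) :=
      mul_le_mul_of_nonneg_right (by linarith) (by linarith)
    have hB : 36 * ((q : ℝ) - 1) ≤ ((m : ℝ) - 1) * ((q : ℝ) ^ 2 - 6 * q + 4) - 4 * ((q : ℝ) - 1) := by
      nlinarith
    have hC : (q : ℝ) * (36 * ((q : ℝ) - 1)) ≤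
        S * (((m : ℝ) - 1) * ((q : ℝ) ^ 2 - 6 * q + 4) - 4 * ((q : ℝ) - 1)) :=
      mul_le_mul hSR hB (by nlinarith) (by linarith)
    have hD : (q : ℝ) * ((q : ℝ) - 2) * (((m : ℝ) - 1) * S) ≤ (q : ℝ) ^ 2 * R := by
      calc (q : ℝ) * ((q : ℝ) - 2) * (((m : ℝ) - 1) * S)
          = (q : ℝ) * (((q : ℝ) - 2) * ((m : ℝ) - 1) * S) := by ring
        _ ≤ (q : ℝ) * ((q : ℝ) * R) := mul_le_mul_of_nonneg_left h (by linarith)
        _ = (q : ℝ) ^ 2 * R := by ring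
    nlinarith

variable (h2 : ∃ x y : G, x ≠ 1 ∧ y ≠ 1 ∧ x ≠ y ∧ x * x = 1 ∧ y * y = 1 ∧ x * y = y * x)
include h2

/-- Many characters of `G` with a large `P` are impossible. -/
theorem bound_false [Fintype (Cfsg.IrrCharacter G)] {ι : Type w} [Fintype ι]
    (χ : ι → Cfsg.IrrCharacter G) (wt : ι → ℕ)
    (hfib : ∀ x, Nat.card {j // χ j = x} ≤ Nat.card ↥D)
    (hP : ∀ j, Pval a s (χ j : G → ℂ) ^ 2 = (((2 ^ n * Nat.card ↥((MulAction.stabilizer G a ⊓ MulAction.stabilizer G (t • a)) ⊓ Subgroup.centralizer ({s} : Set G)) * wt j : ℕ) : ℂ)) ^ 2)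
    {S m : ℕ} (hQ : Nat.card Q = S * m) (hSq : 2 ^ n ≤ S) (hm : 2 * 2 ^ n - 1 ≤ m)
    (hR : (2 ^ n - 2) * (m - 1) * S ≤ 2 ^ n * ∑ j, wt j ^ 2)
    (hR4 : n = 2 → (m - 1) * S ≤ ∑ j, wt j ^ 2) : False := by
  set q := 2 ^ n with hq
  have hsE : s ∈ E := (F.mem_E s).2 (Or.inr hs)
  have hD := card_D_eq hS F hsE hs.2.1
  have hC := card_cent_eq hS F hsE hs.2.1
  have h4 : 4 ≤ q := F.three_le_q
  have hmaster := master hS hs χ ((q * Nat.card ↥((MulAction.stabilizer G a ⊓ MulAction.stabilizer G (t • a)) ⊓ Subgroup.centralizer ({s} : Set G)) : ℕ) : ℝ) wt hfib (fun j => by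
    rw [hP j]; push_cast; ring)
  have hH := card_stabilizer hS
  have hG := card_group hS
  rw [hD] at hH hG hmaster
  rw [hC, hH, hG] at hmaster
  have hv : (0 : ℝ) < (Nat.card ↥((MulAction.stabilizer G a ⊓ MulAction.stabilizer G (t • a)) ⊓ Subgroup.centralizer ({s} : Set G)) : ℝ) := Nat.cast_pos.2 Nat.card_pos
  have hN : (0 : ℝ) < (Nat.card Q : ℝ) := Nat.cast_pos.2 Nat.card_pos
  set v := Nat.card ↥((MulAction.stabilizer G a ⊓ MulAction.stabilizer G (t • a)) ⊓ Subgroup.centralizer ({s} : Set G))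
  set N := Nat.card Q
  set R := ∑ j, wt j ^ 2 with hRdef
  have hsum : ∑ j, (wt j : ℝ) ^ 2 = (R : ℝ) := by rw [hRdef]; push_cast; rfl
  rw [hsum] at hmaster
  push_cast at hmaster
  rw [Nat.cast_sub (by omega : 1 ≤ q)] at hmaster
  push_cast at hmaster
  have hqR : (4 : ℝ) ≤ q := by exact_mod_cast h4
  set X := (((N : ℝ) * (((q : ℝ) - 1) * v) - N * v) /
    (N * (((q : ℝ) - 1) * v) * ((N : ℝ) + 1))) ^ 2 * (N * (((q : ℝ) - 1) * v) * ((N : ℝ) + 1))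
    with hX
  have hX' : ((q : ℝ) - 1) * X ≤ v * ((q : ℝ) - 2) ^ 2 := by
    have : X = (N : ℝ) * v * ((q : ℝ) - 2) ^ 2 / (((q : ℝ) - 1) * ((N : ℝ) + 1)) := by
      have : ((q : ℝ) - 1) ≠ 0 := by linarith
      rw [hX]; field_simp; ring
    rw [this, ← mul_div_assoc, div_le_iff₀ (by nlinarith)]
    have h0 : (0 : ℝ) ≤ v * ((q : ℝ) - 2) ^ 2 * ((q : ℝ) - 1) :=
      mul_nonneg (mul_nonneg hv.le (sq_nonneg _)) (by linarith)
    nlinarith
  have hkey : (v : ℝ) ^ 2 * ((q : ℝ) ^ 2 * R) ≤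
      (v : ℝ) ^ 2 * (4 * ((q : ℝ) - 1) * N + ((q : ℝ) - 2) ^ 2) := by
    nlinarith
  have hle := le_of_mul_le_mul_left hkey (pow_pos hv 2)
  rw [show (N : ℝ) = (S : ℝ) * m by rw [hQ]; push_cast; rfl] at hle
  refine arith_false h4 hSq hm hR (fun e => hR4 ?_) ?_ hle
  · exact Nat.pow_right_injective (le_refl 2) (e.trans (by norm_num : (4 : ℕ) = 2 ^ 2))
  · rcases eq_or_lt_of_le F.two_le with e | e
    · exact Or.inl (by rw [hq, ← e]; norm_num)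
    · exact Or.inr (le_trans (by norm_num) (Nat.pow_le_pow_right (by norm_num) e))

end Cfsg.Agent.Involutions.RankOne.Char
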