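import Cfsg.Agent.Lib.Involutions.RankOne.Char.Psi

/-!
# Conjugate functions on `Q` induce equally; fixed extensions under odd groups
-/

set_option autoImplicit false
set_option linter.unusedSectionVars false

namespace Cfsg.Agent.Involutions.RankOne.Char

open MulAction
open Cfsg.Agent.Characters

universe u v

variable {G : Type u} {Ω : Type v} [Group G] [MulAction G Ω] {a : Ω} {t : G} {Q : Subgroup G}

local notation "H" => MulAction.stabilizer G a

/-- Conjugate functions induce equal functions. -/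
theorem indQ_eq_of_funConj [Fintype G] [Fintype (MulAction.stabilizer G a)]
    (hS : Cfsg.IsRankOneSetup G Ω a t Q) {φ φ' : Q → ℂ} {d : G}
    (hd : d ∈ MulAction.stabilizer G a) (hc : FunConj Q d φ φ') : indQ a Q φ = indQ a Q φ' := by
  classical
  haveI := Fintype.ofFinite (Q.subgroupOf H)
  funext h
  apply mul_left_cancel₀ (Nat.cast_ne_zero.2 Nat.card_pos.ne' :
    (Nat.card (Q.subgroupOf H) : ℂ) ≠ 0)
  rw [indQ, indQ, CharTheory.IndBasic.card_mul_indFun, CharTheory.IndBasic.card_mul_indFun]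
  refine Fintype.sum_equiv (Equiv.mulRight (⟨d, hd⟩ : H)) _ _ fun x => ?_
  simp only [Equiv.coe_mulRight]
  by_cases hm : x⁻¹ * h * x ∈ Q.subgroupOf H
  · have hm' : (x * (⟨d, hd⟩ : H))⁻¹ * h * (x * ⟨d, hd⟩) ∈ Q.subgroupOf H := by
      rw [Subgroup.mem_subgroupOf] at hm ⊢
      have := hS.conj_mem d⁻¹ (inv_mem hd) _ hm
      simpa [mul_assoc] using this
    rw [CharTheory.IndBasic.extendByZero_of_mem _ _ hm,
      CharTheory.IndBasic.extendByZero_of_mem _ _ hm']
    exact (hc ⟨_, Subgroup.mem_subgroupOf.1 hm'⟩ ⟨_, Subgroup.mem_subgroupOf.1 hm⟩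
      (by simp [mul_assoc])).symm
  · have hm' : (x * (⟨d, hd⟩ : H))⁻¹ * h * (x * ⟨d, hd⟩) ∉ Q.subgroupOf H := by
      intro hm'
      refine hm ?_
      rw [Subgroup.mem_subgroupOf] at hm' ⊢
      have := hS.conj_mem d hd _ hm'
      simpa [mul_assoc] using this
    rw [CharTheory.IndBasic.extendByZero_of_notMem _ _ hm,
      CharTheory.IndBasic.extendByZero_of_notMem _ _ hm']

/-- A homomorphism agreeing on `E` with a fixed one of order two, averaged over an odd group. -/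
theorem exists_fixed_ext [Finite G] {S E T : Subgroup G} (hES : E ≤ S)
    (hTS : ∀ d ∈ T, ∀ x ∈ S, d * x * d⁻¹ ∈ S) (hTE : ∀ d ∈ T, ∀ x ∈ E, d * x * d⁻¹ ∈ E)
    (hodd : Odd (Nat.card T)) (β : S →* ℂˣ) (ω : E →* ℂˣ)
    (hres : ∀ e : E, β ⟨e, hES e.2⟩ = ω e) (hsq : ∀ e : E, ω e * ω e = 1)
    (hfix : ∀ d ∈ T, FixedBy E d ω) :
    ∃ β' : S →* ℂˣ, (∀ d ∈ T, FixedBy S d β') ∧ ∀ e : E, β' ⟨e, hES e.2⟩ = ω e := by
  classical
  haveI := Fintype.ofFinite T
  refine ⟨∏ d : T, β.comp (conjHom S (d : G) (hTS d d.2)), fun k hk x y hy => ?_, fun e => ?_⟩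
  · simp only [MonoidHom.finsetProd_apply, MonoidHom.coe_comp, Function.comp_apply]
    refine Fintype.prod_equiv (Equiv.mulRight (⟨k, hk⟩ : T)) _ _ fun d => congrArg β (Subtype.ext ?_)
    show (d : G) * (y : G) * (d : G)⁻¹ = (d : G) * k * (x : G) * ((d : G) * k)⁻¹
    rw [hy]; group
  · simp only [MonoidHom.finsetProd_apply, MonoidHom.coe_comp, Function.comp_apply]
    rw [Finset.prod_congr rfl (g := fun _ => ω e) fun d _ => by
        rw [← hfix (d : G) d.2 e ⟨_, hTE d d.2 e e.2⟩ rfl, ← hres]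
        rfl, Finset.prod_const, Finset.card_univ, ← Nat.card_eq_fintype_card]
    obtain ⟨m, hm⟩ := hodd
    rw [hm, pow_succ, pow_mul, sq, hsq, one_pow, one_mul]

end Cfsg.Agent.Involutions.RankOne.Char
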