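import Cfsg.Agent.Lib.Involutions.RankOne.Char.Stab

/-!
# Counting homomorphisms under a small stabiliser
-/

set_option autoImplicit false
set_option linter.unusedSectionVars false

namespace Cfsg.Agent.Involutions.RankOne.Char

open MulAction

universe u v

variable {G : Type u} {Ω : Type v} [Group G] [Finite G] [MulAction G Ω] {a : Ω} {t : G}
  {Q E : Subgroup G} {g : G} {n : ℕ}

omit [Group G] [Finite G] [MulAction G Ω] in
/-- Powers of two beat the orbits of a group of prime order. -/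
theorem succ_mul_le {n M r : ℕ} (hn : 3 ≤ n) (hodd : Odd n) (hM : 2 ^ n ≤ M) (hr : r ^ 2 ≤ M)
    (hpow : ∃ m, M = 2 ^ m) : (n + 1) * r ≤ M := by
  rcases le_or_gt (n + 1) r with h | h
  · calc (n + 1) * r ≤ r * r := Nat.mul_le_mul_right r h
      _ = r ^ 2 := (sq r).symm
      _ ≤ M := hr
  rcases eq_or_lt_of_le hn with h3 | h3
  · subst h3
    obtain ⟨m, rfl⟩ := hpow
    rcases eq_or_lt_of_le ((Nat.pow_le_pow_iff_right (by norm_num : 1 < 2)).1 hM) with h4 | h4
    · subst h4
      norm_num at hr ⊢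
      interval_cases r <;> omega
    · have h16 : 2 ^ 4 ≤ 2 ^ m := Nat.pow_le_pow_right (by norm_num) h4
      norm_num at h16 ⊢
      omega
  · have h5 : 5 ≤ n := by
      rcases hodd with ⟨j, rfl⟩
      omega
    refine le_trans ?_ hM
    calc (n + 1) * r ≤ (n + 1) * n := Nat.mul_le_mul_left _ (by omega)
      _ ≤ 2 ^ n := by
        clear hn hodd hM h3 h r hr hpow
        induction n, h5 using Nat.le_induction with
        | base => norm_num
        | succ k hk ih => rw [pow_succ]; nlinarith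

/-- A subgroup normalised by `g` with a non-trivial homomorphism has at least `q` of them. -/
theorem Frame.pow_le_card_hom (F : Frame a t Q E g n) {X : Subgroup G} (hXQ : X ≤ Q)
    (hXg : ∀ x ∈ X, g * x * g⁻¹ ∈ X) {β : X →* ℂˣ} (hβ : β ≠ 1) :
    2 ^ n ≤ Nat.card (X →* ℂˣ) := by
  classical
  haveI := finite_hom X
  have hmem : ∀ k : Subgroup.zpowers g, ∀ x ∈ X, (k : G) * x * (k : G)⁻¹ ∈ X :=
    fun k => F.conj_mem_of_g hXg k.2
  let f : Option (Subgroup.zpowers g) → (X →* ℂˣ) := fun o =>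
    o.elim 1 fun k => β.comp (conjHom X k (hmem k))
  have hne : ∀ k : Subgroup.zpowers g, β.comp (conjHom X k (hmem k)) ≠ 1 := fun k e =>
    hβ (MonoidHom.ext fun x => by
      have := DFunLike.congr_fun e ⟨_, hmem k⁻¹ x x.2⟩
      simpa [conjHom, mul_assoc] using this)
  have hinj : Function.Injective f := by
    rintro (_ | k) (_ | k') e
    · rfl
    · exact absurd e.symm (hne k')
    · exact absurd e (hne k)
    · refine congrArg some ?_
      by_contra hk
      refine hβ (F.hom_eq_one hXQ hXg (mul_mem k'.2 (inv_mem k.2))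
        (fun h => hk (Subtype.ext (mul_inv_eq_one.1 h).symm)) β fun x y hy => ?_)
      have hc := DFunLike.congr_fun e ⟨_, hmem k⁻¹ x x.2⟩
      simp only [f, Option.elim, MonoidHom.coe_comp, Function.comp_apply] at hc
      calc β y = β (conjHom X k' (hmem k') ⟨_, hmem k⁻¹ x x.2⟩) :=
            congrArg β (Subtype.ext (by rw [hy]; simp [conjHom, mul_assoc]))
        _ = β (conjHom X k (hmem k) ⟨_, hmem k⁻¹ x x.2⟩) := hc.symm
        _ = β x := congrArg β (Subtype.ext (by simp [conjHom, mul_assoc]))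
  have h := Nat.card_le_card_of_injective f hinj
  rw [Finite.card_option, Nat.card_zpowers, F.orderOf_g] at h
  have := F.three_le_q
  omega

open Classical in
/-- The homomorphisms of `E` moved by every non-identity element of a small stabiliser. -/
theorem Frame.card_good (F : Frame a t Q E g n) (hS : Cfsg.IsRankOneSetup G Ω a t Q)
    {T : Subgroup G} (hT : T ≤ MulAction.stabilizer G a ⊓ MulAction.stabilizer G (t • a))
    (hfix : SmallFix E T) :
    Nat.card {ω : E →* ℂˣ // ∀ x ∈ T, x ≠ 1 → ¬ FixedBy E x ω} =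
      if T = ⊥ then 2 ^ n else 2 ^ n - 2 := by
  classical
  haveI := finite_hom E
  split_ifs with h
  · rw [← F.card_E, ← F.card_hom_E]
    refine Nat.card_congr (Equiv.subtypeUnivEquiv fun ω x hx hx1 => absurd ?_ hx1)
    rw [h] at hx
    exact Subgroup.mem_bot.1 hx
  · have h1 : Nat.card {ω : E →* ℂˣ // ¬ ∃ x ∈ T, x ≠ 1 ∧ FixedBy E x ω} +
        Nat.card {ω : E →* ℂˣ // ∃ x ∈ T, x ≠ 1 ∧ FixedBy E x ω} = Nat.card (E →* ℂˣ) := by
      rw [add_comm, ← Nat.card_sum]
      exact Nat.card_congr (Equiv.sumCompl _)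
    rw [F.card_fixed_small hS hT hfix h, F.card_hom_E, F.card_E] at h1
    rw [Nat.card_congr (Equiv.subtypeEquivRight
      (q := fun ω : E →* ℂˣ => ¬ ∃ x ∈ T, x ≠ 1 ∧ FixedBy E x ω) fun ω => by
        simp only [not_exists, not_and])]
    omega

/-- Two moved homomorphisms of `E` in different orbits of the stabiliser. -/
theorem Frame.exists_two_good (F : Frame a t Q E g n) (hS : Cfsg.IsRankOneSetup G Ω a t Q)
    {T : Subgroup G} (hT : T ≤ MulAction.stabilizer G a ⊓ MulAction.stabilizer G (t • a))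
    (hfix : SmallFix E T) (hne : T ≠ ⊥) :
    ∃ ω ω' : E →* ℂˣ, (∀ x ∈ T, x ≠ 1 → ¬ FixedBy E x ω) ∧ (∀ x ∈ T, x ≠ 1 → ¬ FixedBy E x ω') ∧
      ∀ x ∈ T, ¬ ∀ u w : E, (w : G) = x * u * x⁻¹ → ω' w = ω u := by
  classical
  haveI := finite_hom E
  obtain ⟨-, -, h3, hcard, -⟩ := (F.small_stab hS hT hfix).resolve_left hne
  have hg := F.card_good hS hT hfix
  rw [if_neg hne] at hg
  have hp' : ∀ m : ℕ, 3 ≤ m → m + 2 < 2 ^ m := fun m hm => by
    induction m, hm using Nat.le_induction with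
    | base => norm_num
    | succ k hk ih => rw [pow_succ]; omega
  have hpow := hp' n h3
  obtain ⟨⟨ω, hω⟩⟩ := (Nat.card_ne_zero.1 (by omega :
    Nat.card {ω : E →* ℂˣ // ∀ x ∈ T, x ≠ 1 → ¬ FixedBy E x ω} ≠ 0)).1
  by_contra hcon
  push Not at hcon
  choose f hf hfe using fun ω' : {ω : E →* ℂˣ // ∀ x ∈ T, x ≠ 1 → ¬ FixedBy E x ω} =>
    hcon ω ω'.1 hω ω'.2
  have hle := Nat.card_le_card_of_injective (fun ω' => (⟨f ω', hf ω'⟩ : T)) fun x y e => by
    have e' : f x = f y := congrArg Subtype.val e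
    refine Subtype.ext (MonoidHom.ext fun w => ?_)
    have hmem : (f x)⁻¹ * (w : G) * f x ∈ E := by
      simpa using F.E_conj _ (inv_mem (hT (hf x))) w w.2
    rw [hfe x ⟨_, hmem⟩ w (by simp [mul_assoc]), hfe y ⟨_, hmem⟩ w (by rw [← e']; simp [mul_assoc])]
  omega

end Cfsg.Agent.Involutions.RankOne.Char
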