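import Cfsg.Agent.Lib.Involutions.RankOne.Char.Product
import Cfsg.Agent.Lib.Involutions.RankOne.Char.TwoGroup.Bound
import Cfsg.Agent.Lib.Involutions.RankOne.Char.TwoGroup.Conj
import Cfsg.Agent.Lib.Involutions.RankOne.Char.TwoGroup.Hom
import Cfsg.Agent.Lib.Involutions.RankOne.Char.Coefficient

/-!
# The counted pairs `(α, λ)` and the counting contradiction
-/

set_option autoImplicit false
set_option linter.unusedSectionVars false
set_option linter.style.haveILetI false

namespace Cfsg.Agent.Involutions.RankOne.Char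

open MulAction
open Cfsg.Agent.Characters
open scoped ComplexConjugate

universe u v w

/-- The degree of an irreducible character. -/
noncomputable def dgr {K : Type w} [Group K] [Finite K] (χ : Cfsg.IrrCharacter K) : ℕ :=
  (irr_one_pos χ.2).choose

theorem dgr_pos {K : Type w} [Group K] [Finite K] (χ : Cfsg.IrrCharacter K) : 0 < dgr χ :=
  (irr_one_pos χ.2).choose_spec.1

theorem dgr_spec {K : Type w} [Group K] [Finite K] (χ : Cfsg.IrrCharacter K) :
    (χ : K → ℂ) 1 = (dgr χ : ℂ) :=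
  (irr_one_pos χ.2).choose_spec.2

variable {G : Type u} {Ω : Type v} [Group G] [MulAction G Ω] {a : Ω} {t : G}
  {Q E S O : Subgroup G} {g : G} {n : ℕ} {s : G}

local notation "H" => MulAction.stabilizer G a
local notation "D" => (MulAction.stabilizer G a ⊓ MulAction.stabilizer G (t • a))

/-- An element of `D` of prime order centralising an element of `O#` centralises one involution. -/
def RedHyp (a : Ω) (t : G) (E O : Subgroup G) : Prop :=
  ∀ d ∈ MulAction.stabilizer G a ⊓ MulAction.stabilizer G (t • a), (orderOf d).Prime →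
    (∃ x ∈ O, x ≠ 1 ∧ Commute x d) → Nat.card ↥(E ⊓ Subgroup.centralizer ({d} : Set G)) = 2

/-- The pair is not fixed by a non-identity element of `D`. -/
def Reg (a : Ω) (t : G) (α : Cfsg.IrrCharacter S) (lam : Cfsg.IrrCharacter O) : Prop :=
  ∀ d ∈ MulAction.stabilizer G a ⊓ MulAction.stabilizer G (t • a),
    IsConjFun S d (α : S → ℂ) (α : S → ℂ) → IsConjFun O d (lam : O → ℂ) (lam : O → ℂ) → d = 1

variable [Fintype G] (sp : Split a Q E S O)

/-- The pairs that are counted. -/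
def Split.Counted (t : G) (α : Cfsg.IrrCharacter S) (lam : Cfsg.IrrCharacter O) : Prop :=
  lam ≠ trivIrr O ∧ ∀ d ∈ MulAction.stabilizer G a ⊓ MulAction.stabilizer G (t • a), d ≠ 1 →
    IsConjFun O d (lam : O → ℂ) (lam : O → ℂ) → ¬ FixedBy E d (sp.centralChar α)

include sp

theorem Split.Counted.reg {α : Cfsg.IrrCharacter S} {lam : Cfsg.IrrCharacter O}
    (h : sp.Counted t α lam) : Reg a t α lam := fun d hd hα hlam => by
  by_contra hne
  exact h.2 d hd hne hlam (sp.centralChar_conj hα)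

/-- The value of `α ⊗ λ` on `E`. -/
theorem Split.prodChar_E (α : Cfsg.IrrCharacter S) (lam : Cfsg.IrrCharacter O) (e : E)
    (hq : (e : G) ∈ Q) :
    (sp.prodChar α lam : Q → ℂ) ⟨e, hq⟩ =
      (sp.prodChar α lam : Q → ℂ) 1 * (sp.centralChar α e : ℂ) := by
  rw [sp.prodChar_one, sp.prodChar_apply α lam (x := ⟨e, sp.E_le e.2⟩) (y := 1) (by simp),
    show (α : S → ℂ) ⟨e, sp.E_le e.2⟩ = (sp.centralChar α e : ℂ) * (α : S → ℂ) 1 by
      rw [← sp.centralChar_spec α e 1, mul_one]]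
  ring

variable [Fintype (MulAction.stabilizer G a)] (hS : Cfsg.IsRankOneSetup G Ω a t Q)

include hS

theorem Split.conj_Q {d : G} (hd : d ∈ D) : ∀ x ∈ Q, d * x * d⁻¹ ∈ Q :=
  fun x hx => hS.conj_mem d hd.1 x hx

theorem Split.isIrr_indQ {α : Cfsg.IrrCharacter S} {lam : Cfsg.IrrCharacter O}
    (h : Reg a t α lam) : Cfsg.IsIrrCharacter H (indQ a Q (sp.prodChar α lam : Q → ℂ)) :=
  RankOne.Char.isIrr_indQ hS (sp.prodChar α lam).2 fun d hd hf => by
    obtain ⟨h1, h2⟩ := (sp.prodChar_conj_iff hd.1 (sp.conj_Q hS hd)).1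
      (fun x y e => hf x y e : IsConjFun Q d (sp.prodChar α lam : Q → ℂ) (sp.prodChar α lam : Q → ℂ))
    exact h d hd h1 h2

/-- The irreducible character of `G_a` of a pair. -/
noncomputable def Split.psi {α : Cfsg.IrrCharacter S} {lam : Cfsg.IrrCharacter O}
    (h : Reg a t α lam) : Cfsg.IrrCharacter H :=
  ⟨indQ a Q (sp.prodChar α lam : Q → ℂ), sp.isIrr_indQ hS h⟩

theorem Split.psi_coe {α : Cfsg.IrrCharacter S} {lam : Cfsg.IrrCharacter O} (h : Reg a t α lam) :
    (sp.psi hS h : H → ℂ) = indQ a Q (sp.prodChar α lam : Q → ℂ) := rfl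

/-- The induced characters agree exactly for conjugate pairs. -/
theorem Split.indQ_eq_iff {α α' : Cfsg.IrrCharacter S} {lam lam' : Cfsg.IrrCharacter O} :
    indQ a Q (sp.prodChar α lam : Q → ℂ) = indQ a Q (sp.prodChar α' lam' : Q → ℂ) ↔
      ∃ d ∈ D, IsConjFun S d (α : S → ℂ) (α' : S → ℂ) ∧
        IsConjFun O d (lam : O → ℂ) (lam' : O → ℂ) := by
  constructor
  · intro h
    obtain ⟨d, hd, hc⟩ := exists_of_indQ_eq hS (sp.prodChar α lam).2 (sp.prodChar α' lam').2 h
    exact ⟨d, hd, (sp.prodChar_conj_iff hd.1 (sp.conj_Q hS hd)).1 fun x y e => (hc x y e).symm⟩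
  · rintro ⟨d, hd, h⟩
    refine indQ_eq_of_funConj hS hd.1 fun x y e => ?_
    exact (((sp.prodChar_conj_iff hd.1 (sp.conj_Q hS hd)).2 h) x y e).symm

theorem Split.indQ_prod_one (α : Cfsg.IrrCharacter S) (lam : Cfsg.IrrCharacter O) :
    indQ a Q (sp.prodChar α lam : Q → ℂ) 1 =
      ((Nat.card ↥D * (dgr α * dgr lam) : ℕ) : ℂ) := by
  rw [indQ_one hS, sp.prodChar_one, dgr_spec, dgr_spec]
  push_cast; ring

/-- Pairs with degree factor `c` give functions supported on the elements fixing only `a`. -/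
theorem Split.supp_diff (α α' : Cfsg.IrrCharacter S) (lam lam' : Cfsg.IrrCharacter O) (c : ℕ)
    (h1 : dgr α * dgr lam = c * (dgr α' * dgr lam')) :
    Supp a (indQ a Q (sp.prodChar α lam : Q → ℂ) -
      (c : ℂ) • indQ a Q (sp.prodChar α' lam' : Q → ℂ)) := by
  refine supp_indQ hS _ _ _ ?_
  rw [sp.prodChar_one, sp.prodChar_one, dgr_spec, dgr_spec, dgr_spec, dgr_spec]
  exact_mod_cast h1

variable (F : Frame a t Q E g n) (hs : s ∈ Cfsg.involutionsIn (MulAction.stabilizer G a : Set G))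
include F hs

/-- The values at `s` of a pair with trivial and one with non-trivial central character. -/
theorem Split.indQ_sub_at {α α' : Cfsg.IrrCharacter S} {lam lam' : Cfsg.IrrCharacter O} (c : ℕ)
    (h0 : sp.centralChar α = 1) (h1 : sp.centralChar α' ≠ 1)
    (hc : dgr α' * dgr lam' = c * (dgr α * dgr lam)) :
    (c : ℂ) * indQ a Q (sp.prodChar α lam : Q → ℂ) ⟨s, hs.1⟩ -
        indQ a Q (sp.prodChar α' lam' : Q → ℂ) ⟨s, hs.1⟩ =
      ((2 ^ n * Nat.card ↥((MulAction.stabilizer G a ⊓ MulAction.stabilizer G (t • a)) ⊓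
        Subgroup.centralizer ({s} : Set G)) * (dgr α' * dgr lam') : ℕ) : ℂ) := by
  have hcast : (sp.prodChar α' lam' : Q → ℂ) 1 = ((dgr α' * dgr lam' : ℕ) : ℂ) := by
    rw [sp.prodChar_one, dgr_spec, dgr_spec, Nat.cast_mul]
  rw [indQ_diff hS F hs (fun e hq => by simp [sp.prodChar_E, h0]) (sp.prodChar_E α' lam') h1 _
    (by
      rw [sp.prodChar_one, sp.prodChar_one, dgr_spec, dgr_spec, dgr_spec, dgr_spec]
      exact_mod_cast hc), hcast, ← Nat.cast_mul]

/-- The value at `s` depends only on the degree and on whether the central character is trivial. -/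
theorem Split.indQ_at_eq {α α' : Cfsg.IrrCharacter S} {lam lam' : Cfsg.IrrCharacter O}
    (h0 : sp.centralChar α = 1 ↔ sp.centralChar α' = 1)
    (hc : dgr α * dgr lam = dgr α' * dgr lam') :
    indQ a Q (sp.prodChar α lam : Q → ℂ) ⟨s, hs.1⟩ =
      indQ a Q (sp.prodChar α' lam' : Q → ℂ) ⟨s, hs.1⟩ := by
  classical
  have e1 := indQ_at hS F (sp.prodChar_E α lam) hs
  have e2 := indQ_at hS F (sp.prodChar_E α' lam') hs
  have h4 := F.three_le_q
  have hq1 : (((2 : ℕ) ^ n - 1 : ℕ) : ℂ) ≠ 0 := Nat.cast_ne_zero.2 (by omega)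
  refine mul_left_cancel₀ hq1 (e1.trans (Eq.trans ?_ e2.symm))
  rw [sp.prodChar_one, sp.prodChar_one, dgr_spec, dgr_spec, dgr_spec, dgr_spec]
  simp only [← Nat.cast_mul]
  rw [hc]
  by_cases h : sp.centralChar α = 1
  · rw [if_pos h, if_pos (h0.1 h)]
  · rw [if_neg h, if_neg fun e => h (h0.2 e)]

omit hS F hs in
/-- The stabiliser in `D` of a character of `O`. -/
theorem Split.exists_stab (hN : Group.IsNilpotent O) (red : RedHyp a t E O)
    {lam : Cfsg.IrrCharacter O} (hlam : lam ≠ trivIrr O) :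
    ∃ T : Subgroup G, T ≤ D ∧ SmallFix E T ∧
      ∀ d : G, d ∈ T ↔ d ∈ D ∧ IsConjFun O d (lam : O → ℂ) (lam : O → ℂ) := by
  let T : Subgroup G :=
    { carrier := {d | d ∈ D ∧ IsConjFun O d (lam : O → ℂ) (lam : O → ℂ)}
      one_mem' := ⟨one_mem _, IsConjFun.one _⟩
      mul_mem' := fun {x y} hx hy => ⟨mul_mem hx.1 hy.1, hx.2.trans (sp.conj_O y hy.1.1) hy.2⟩
      inv_mem' := fun {x} hx => ⟨inv_mem hx.1, hx.2.symm⟩ }
  refine ⟨T, fun d hd => hd.1, fun d hd hp => red d hd.1 hp ?_, fun d => Iff.rfl⟩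
  exact exists_commute_of_fixed hN hp (sp.conj_O d hd.1.1) lam.2
    (fun e => hlam (Subtype.ext e)) hd.2

omit hs in
open scoped _root_.Classical in
/-- The mass of the counted pairs over one character of `O`. -/
theorem Split.mass_counted [Fintype (Cfsg.IrrCharacter S)] {lam : Cfsg.IrrCharacter O}
    (hlam : lam ≠ trivIrr O) {T : Subgroup G} (hT : T ≤ D) (hfix : SmallFix E T)
    (hmem : ∀ d : G, d ∈ T ↔ d ∈ D ∧ IsConjFun O d (lam : O → ℂ) (lam : O → ℂ)) :
    2 ^ n * (∑ α ∈ Finset.univ.filter (fun α => sp.Counted t α lam), dgr α ^ 2) =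
      (if T = ⊥ then 2 ^ n else 2 ^ n - 2) * Nat.card S := by
  haveI := finite_hom E
  haveI := Fintype.ofFinite (E →* ℂˣ)
  have hiff : ∀ α, sp.Counted t α lam ↔
      ∀ x ∈ T, x ≠ 1 → ¬ FixedBy E x (sp.centralChar α) := fun α =>
    ⟨fun h x hx hx1 => h.2 x (hT hx) hx1 ((hmem x).1 hx).2,
      fun h => ⟨hlam, fun d hd hd1 hc => h d ((hmem d).2 ⟨hd, hc⟩) hd1⟩⟩
  have hm : ∀ ω : E →* ℂˣ,
      2 ^ n * (∑ α ∈ Finset.univ.filter (fun α => sp.centralChar α = ω), dgr α ^ 2) =
        Nat.card S := fun ω => by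
    have h := sp.mass ω
    simp only [dgr_spec, F.card_E] at h
    apply Nat.cast_injective (R := ℂ)
    push_cast at h ⊢
    convert h using 3
    exact Finset.ext fun α => by simp only [Finset.mem_filter]
  set W := Finset.univ.filter fun ω : E →* ℂˣ => ∀ x ∈ T, x ≠ 1 → ¬ FixedBy E x ω with hW
  rw [← Finset.sum_fiberwise_of_maps_to (t := W) (g := fun α => sp.centralChar α)
    (fun α hα => Finset.mem_filter.2 ⟨Finset.mem_univ _, (hiff α).1 (Finset.mem_filter.1 hα).2⟩),
    Finset.mul_sum, Finset.sum_congr rfl (g := fun _ => Nat.card S) fun ω hω => ?_,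
    Finset.sum_const, smul_eq_mul]
  · congr 1
    rw [← F.card_good hS hT hfix, Nat.card_eq_fintype_card, Fintype.card_subtype]
  · rw [Finset.filter_filter, ← hm ω]
    congr 1
    refine Finset.sum_congr (Finset.filter_congr fun α _ => ⟨fun h => h.2, fun h => ⟨(hiff α).2 ?_, h⟩⟩)
      fun _ _ => rfl
    rw [h]; exact (Finset.mem_filter.1 hω).2

variable (h2 : ∃ x y : G, x ≠ 1 ∧ y ≠ 1 ∧ x ≠ y ∧ x * x = 1 ∧ y * y = 1 ∧ x * y = y * x)
include h2

/-- Characters of `G` with a large `P` for all counted pairs are impossible. -/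
theorem Split.false_of_map [Fintype (Cfsg.IrrCharacter G)] (red : RedHyp a t E O) (hO : O ≠ ⊥)
    (χ : ∀ (α : Cfsg.IrrCharacter S) (lam : Cfsg.IrrCharacter O),
      sp.Counted t α lam → Cfsg.IrrCharacter G)
    (hP : ∀ α lam hc, Pval a s (χ α lam hc : G → ℂ) ^ 2 =
      ((2 ^ n * Nat.card ↥((MulAction.stabilizer G a ⊓ MulAction.stabilizer G (t • a)) ⊓
        Subgroup.centralizer ({s} : Set G)) * (dgr α * dgr lam) : ℕ) : ℂ) ^ 2)
    (hsep : ∀ α lam hc α' lam' hc', χ α lam hc = χ α' lam' hc' →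
      indQ a Q (sp.prodChar α lam : Q → ℂ) = indQ a Q (sp.prodChar α' lam' : Q → ℂ)) : False := by
  classical
  haveI := Fintype.ofFinite (Cfsg.IrrCharacter S)
  haveI := Fintype.ofFinite (Cfsg.IrrCharacter O)
  have hN := sp.nilpotent_O hS h2
  let ι := {i : Cfsg.IrrCharacter S × Cfsg.IrrCharacter O // sp.Counted t i.1 i.2}
  let χ' : ι → Cfsg.IrrCharacter G := fun i => χ i.1.1 i.1.2 i.2
  have hfib : ∀ x, Nat.card {j // χ' j = x} ≤ Nat.card ↥D := by
    intro x
    rcases isEmpty_or_nonempty {j // χ' j = x} with he | ⟨⟨i, hi⟩⟩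
    · simp
    choose f hf hfS hfO using fun j : {j // χ' j = x} => (sp.indQ_eq_iff hS).1
      (hsep _ _ i.2 _ _ j.1.2 (hi.trans j.2.symm))
    refine Nat.card_le_card_of_injective (fun j => (⟨f j, hf j⟩ : ↥D)) fun j j' e => ?_
    have e' : f j = f j' := congrArg Subtype.val e
    refine Subtype.ext (Subtype.ext (Prod.ext (Subtype.ext ?_) (Subtype.ext ?_)))
    · exact IsConjFun.unique (sp.conj_S _ (hf j).1) (hfS j) (e' ▸ hfS j')
    · exact IsConjFun.unique (sp.conj_O _ (hf j).1) (hfO j) (e' ▸ hfO j')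
  have hsum : ∑ j : ι, (dgr j.1.1 * dgr j.1.2) ^ 2 =
      ∑ lam, dgr lam ^ 2 * ∑ α ∈ Finset.univ.filter (fun α => sp.Counted t α lam), dgr α ^ 2 := by
    rw [← Finset.sum_subtype (Finset.univ.filter fun i : Cfsg.IrrCharacter S × Cfsg.IrrCharacter O =>
      sp.Counted t i.1 i.2) (fun i => by simp) (fun i => (dgr i.1 * dgr i.2) ^ 2),
      Finset.sum_filter, Fintype.sum_prod_type_right]
    refine Finset.sum_congr rfl fun lam _ => ?_
    rw [Finset.mul_sum, Finset.sum_filter]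
    exact Finset.sum_congr rfl fun α _ => by split_ifs <;> ring
  have hOdeg : ∑ lam ∈ Finset.univ.erase (trivIrr O), dgr lam ^ 2 = Nat.card O - 1 := by
    have h : ∑ lam : Cfsg.IrrCharacter O, dgr lam ^ 2 = Nat.card O := by
      have h := sum_degree_sq (G := O)
      simp only [dgr_spec] at h
      exact_mod_cast h
    have h1 : dgr (trivIrr O) = 1 := by
      have := dgr_spec (trivIrr O)
      simp only [trivIrr_coe] at this
      exact_mod_cast this.symm
    rw [← Finset.add_sum_erase _ _ (Finset.mem_univ (trivIrr O)), h1] at h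
    omega
  have hzero : ∀ f : ℕ → ℕ, f 0 = 0 → ∑ lam, f (dgr lam ^ 2 *
      ∑ α ∈ Finset.univ.filter (fun α => sp.Counted t α lam), dgr α ^ 2) =
      ∑ lam ∈ Finset.univ.erase (trivIrr O), f (dgr lam ^ 2 *
        ∑ α ∈ Finset.univ.filter (fun α => sp.Counted t α lam), dgr α ^ 2) := fun f hf => by
    refine (Finset.sum_erase _ ?_).symm
    rw [Finset.filter_eq_empty_iff.2 (fun α _ hc => hc.1 rfl), Finset.sum_empty, mul_zero, hf]
  refine bound_false hS F hs h2 χ' (fun j => dgr j.1.1 * dgr j.1.2) hfib (fun j => hP _ _ j.2)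
    sp.card_Q (Nat.le_of_dvd Nat.card_pos (F.card_E ▸ Subgroup.card_dvd_of_le sp.E_le))
    (sp.card_O_bound F hO) ?_ ?_
  · rw [hsum, ← hOdeg, Finset.mul_sum, Finset.mul_sum, Finset.sum_mul,
      hzero (fun x => 2 ^ n * x) (mul_zero _)]
    refine Finset.sum_le_sum fun lam hlam => ?_
    obtain ⟨T, hT, hfix, hmem⟩ := sp.exists_stab hN red (Finset.ne_of_mem_erase hlam)
    calc (2 ^ n - 2) * dgr lam ^ 2 * Nat.card S = dgr lam ^ 2 * ((2 ^ n - 2) * Nat.card S) := by
          ring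
      _ ≤ dgr lam ^ 2 * ((if T = ⊥ then 2 ^ n else 2 ^ n - 2) * Nat.card S) := by
          refine Nat.mul_le_mul_left _ (Nat.mul_le_mul_right _ ?_)
          split_ifs
          exacts [Nat.sub_le _ _, le_rfl]
      _ = _ := by
          rw [← sp.mass_counted hS F (Finset.ne_of_mem_erase hlam) hT hfix hmem]; ring
  · intro hn
    rw [hsum, ← hOdeg, Finset.sum_mul, hzero (fun x => x) rfl]
    refine Finset.sum_le_sum fun lam hlam => ?_
    obtain ⟨T, hT, hfix, hmem⟩ := sp.exists_stab hN red (Finset.ne_of_mem_erase hlam)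
    have hbot : T = ⊥ := (F.small_stab hS hT hfix).resolve_right fun h => by omega
    refine le_of_eq ?_
    apply Nat.eq_of_mul_eq_mul_left (Nat.two_pow_pos n)
    rw [mul_left_comm, mul_left_comm (2 ^ n), sp.mass_counted hS F (Finset.ne_of_mem_erase hlam) hT
      hfix hmem, if_pos hbot]

end Cfsg.Agent.Involutions.RankOne.Char
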