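import Cfsg.Agent.Lib.Involutions.RankOne.Char.TwoGroup.Ctx

/-!
# Induction on the order: `Q` is a 2-group
-/

set_option autoImplicit false
set_option linter.unusedSectionVars false

namespace Cfsg.Agent.Involutions.RankOne.Char

open MulAction Involutions.Basic

universe u v

/-- The step of the induction: an element of `D` centralising part of `O#` centralises one
involution. -/
theorem redHyp_of_ih {G : Type u} {Ω : Type v} [Group G] [Finite G] [MulAction G Ω]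
    [FaithfulSMul G Ω] {a : Ω} {t : G} {Q E S O : Subgroup G} {g : G} {n : ℕ}
    (hS : Cfsg.IsRankOneSetup G Ω a t Q) (F : Frame a t Q E g n) (sp : Split a Q E S O)
    (ih : ∀ (G' : Type u) [Group G'] [Finite G'] (Ω' : Type v) [MulAction G' Ω']
      [FaithfulSMul G' Ω'] (a' : Ω') (t' : G') (Q' : Subgroup G'),
      Cfsg.IsRankOneSetup G' Ω' a' t' Q' → Nat.card G' < Nat.card G →
      (∃ x y : G', x ≠ 1 ∧ y ≠ 1 ∧ x ≠ y ∧ x * x = 1 ∧ y * y = 1 ∧ x * y = y * x) →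
      IsPGroup 2 Q') : RedHyp a t E O := by
  classical
  rintro d hd hp ⟨x, hxO, hx1, hxd⟩
  have hq : ∃ x ∈ Q, x ≠ 1 ∧ Commute x d := ⟨x, sp.le_O hxO, hx1, hxd⟩
  have hd1 : d ≠ 1 := fun e => hp.ne_one (by rw [e, orderOf_one])
  set C := E ⊓ Subgroup.centralizer ({d} : Set G) with hC
  -- an involution in the centraliser
  obtain ⟨e, he, he1⟩ : ∃ e ∈ C, e ≠ 1 := by
    haveI : Fact (Nat.Prime 2) := ⟨Nat.prime_two⟩
    obtain ⟨e, he⟩ := exists_prime_orderOf_dvd_card' 2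
      (even_iff_two_dvd.1 (even_cent hS (Set.singleton_subset_iff.2 hd) (three_fixed hS hd hq)))
    obtain ⟨h1, h2⟩ := orderOf_two_iff.1 ((Subgroup.orderOf_coe e).trans he)
    exact ⟨e, Subgroup.mem_inf.2 ⟨AbelianCase.mem_E_of_sq hS F (Subgroup.mem_inf.1 e.2).2 h1,
      (Subgroup.mem_inf.1 e.2).1⟩, h2⟩
  by_contra hne
  obtain ⟨e', he', he'1, hee⟩ : ∃ e' ∈ C, e' ≠ 1 ∧ e ≠ e' := by
    by_contra hall
    push Not at hall
    refine hne (Nat.card_eq_two_iff.2 ⟨1, ⟨e, he⟩, fun h => he1 (congrArg Subtype.val h).symm,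
      Set.eq_univ_of_forall fun y => ?_⟩)
    by_cases hy : (y : G) = 1
    · exact Or.inl (Subtype.ext hy)
    · exact Or.inr (Subtype.ext (hall y y.2 hy).symm)
  obtain ⟨G', i1, i2, Ω', i3, i4, a', t', Q', hS', hlt, ⟨eQ⟩, hh2⟩ := reduce hS hd hd1 hq
  have hc : ∀ {y}, y ∈ C → Commute y d := fun hy =>
    Subgroup.mem_centralizer_singleton_iff.1 (Subgroup.mem_inf.1 hy).2
  have hE : ∀ {y}, y ∈ C → y ∈ E := fun hy => (Subgroup.mem_inf.1 hy).1
  have h2' := hh2 ⟨e, e', he1, he'1, hee, AbelianCase.sq_of_mem_E hS F (hE he),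
    AbelianCase.sq_of_mem_E hS F (hE he'), F.E_comm e (hE he) e' (F.E_le (hE he')),
    F.E_le (hE he), F.E_le (hE he'), hc he, hc he'⟩
  have h2Q : IsPGroup 2 ↥(Subgroup.centralizer ({d} : Set G) ⊓ Q) :=
    (ih G' Ω' a' t' Q' hS' hlt h2').of_equiv eQ.symm
  obtain ⟨j, hj⟩ := h2Q ⟨x, Subgroup.mem_inf.2
    ⟨Subgroup.mem_centralizer_singleton_iff.2 hxd.eq, sp.le_O hxO⟩⟩
  have hj' : x ^ 2 ^ j = 1 := congrArg Subtype.val hj
  have h1 : orderOf x ∣ 2 ^ j := orderOf_dvd_of_pow_eq_one hj'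
  have h2'' : Odd (orderOf x) := sp.odd_O.of_dvd_nat (Subgroup.orderOf_dvd_natCard O hxO)
  exact hx1 (orderOf_eq_one_iff.1
    (Nat.eq_one_of_dvd_coprimes ((Nat.coprime_two_right.2 h2'').pow_right j) dvd_rfl h1))

/-- `Q` is a 2-group, given the counting contradiction in the two cases. -/
theorem isPGroup_two_of
    (hAb : ∀ (G : Type u) [Group G] [Finite G] (Ω : Type v) [MulAction G Ω] (a : Ω) (t s : G)
      (Q E S O : Subgroup G) (g : G) (n : ℕ), Cfsg.IsRankOneSetup G Ω a t Q → Split a Q E S O →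
      Frame a t Q E g n → s ∈ Cfsg.involutionsIn (MulAction.stabilizer G a : Set G) →
      (∃ x y : G, x ≠ 1 ∧ y ≠ 1 ∧ x ≠ y ∧ x * x = 1 ∧ y * y = 1 ∧ x * y = y * x) →
      RedHyp a t E O → O ≠ ⊥ → False)
    {G : Type u} {Ω : Type v} [Group G] [Finite G] [MulAction G Ω] [FaithfulSMul G Ω] {a : Ω}
    {t : G} {Q : Subgroup G} (hS : Cfsg.IsRankOneSetup G Ω a t Q)
    (h2 : ∃ x y : G, x ≠ 1 ∧ y ≠ 1 ∧ x ≠ y ∧ x * x = 1 ∧ y * y = 1 ∧ x * y = y * x) :
    IsPGroup 2 Q := by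
  suffices key : ∀ (m : ℕ) (G : Type u) [Group G] [Finite G] (Ω : Type v) [MulAction G Ω]
      [FaithfulSMul G Ω] (a : Ω) (t : G) (Q : Subgroup G), Cfsg.IsRankOneSetup G Ω a t Q →
      (∃ x y : G, x ≠ 1 ∧ y ≠ 1 ∧ x ≠ y ∧ x * x = 1 ∧ y * y = 1 ∧ x * y = y * x) →
      Nat.card G = m → IsPGroup 2 Q from key _ G Ω a t Q hS h2 rfl
  intro m
  induction m using Nat.strong_induction_on with
  | _ m ih =>
    intro G _ _ Ω _ _ a t Q hS h2 hm
    obtain ⟨E, g, n, F⟩ := exists_frame hS h2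
    obtain ⟨S, O, sp⟩ := exists_split hS h2 F
    have red : RedHyp a t E O := redHyp_of_ih hS F sp fun G' _ _ Ω' _ _ a' t' Q' hS' hlt h2' =>
      ih _ (hm ▸ hlt) G' Ω' a' t' Q' hS' h2' rfl
    obtain ⟨s, hsE, hs1⟩ : ∃ s ∈ E, s ≠ 1 := by
      by_contra h
      push Not at h
      have h4 := F.three_le_q
      rw [← F.card_E, (Subgroup.eq_bot_iff_forall E).2 h, Subgroup.card_bot] at h4
      omega
    have hs := ((F.mem_E s).1 hsE).resolve_left hs1
    have hO : O = ⊥ := by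
      by_contra hO
      exact hAb G Ω a t s Q E S O g n hS sp F hs h2 red hO
    refine sp.two_group.of_equiv (MulEquiv.ofBijective (Subgroup.inclusion sp.le_S)
      ⟨Subgroup.inclusion_injective _, fun q => ?_⟩)
    obtain ⟨x, hx, y, hy, he⟩ := sp.exists_mul q q.2
    rw [hO, Subgroup.mem_bot] at hy
    exact ⟨⟨x, hx⟩, Subtype.ext (by rw [he, hy, mul_one]; rfl)⟩

end Cfsg.Agent.Involutions.RankOne.Char
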