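import Cfsg.Agent.Lib.Involutions.RankOne.Char.TwoGroup.Ctx

/-!
# The families over linear characters of a Suzuki 2-group

Over a non-trivial `λ` of `O`: the characters induced from the regular pairs `(β, μ)`, `β` linear and
`μ` conjugate to `λ` or to its complex conjugate.
-/

set_option autoImplicit false
set_option linter.unusedSectionVars false
set_option linter.style.haveILetI false

namespace Cfsg.Agent.Involutions.RankOne.Char

open MulAction
open Cfsg.Agent.Characters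
open scoped ComplexConjugate

universe u v

variable {G : Type u} {Ω : Type v} [Group G] [MulAction G Ω] {a : Ω} {t : G}
  {Q E S O : Subgroup G} {g : G} {n : ℕ} {s : G}

local notation "H" => MulAction.stabilizer G a
local notation "D" => (MulAction.stabilizer G a ⊓ MulAction.stabilizer G (t • a))

/-- `θ'` is conjugate under the two-point stabiliser to `θ` or to its complex conjugate. -/
def ConjRel (a : Ω) (t : G) (θ θ' : O → ℂ) : Prop :=
  ∃ d ∈ MulAction.stabilizer G a ⊓ MulAction.stabilizer G (t • a),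
    IsConjFun O d θ θ' ∨ IsConjFun O d (fun y => conj (θ y)) θ'

/-- A homomorphism to `ℂˣ` as an irreducible character. -/
noncomputable def linIrr [Finite G] (β : S →* ℂˣ) : Cfsg.IrrCharacter S :=
  ⟨fun x => (β x : ℂ), isIrrCharacter_linear β⟩

theorem linIrr_coe [Finite G] (β : S →* ℂˣ) :
    (linIrr β : S → ℂ) = fun x => (β x : ℂ) := rfl

theorem linIrr_injective [Finite G] : Function.Injective (linIrr : (S →* ℂˣ) → Cfsg.IrrCharacter S) :=
  fun _ _ e => MonoidHom.ext fun x => Units.ext (congrFun (congrArg Subtype.val e) x)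

theorem dgr_linIrr [Finite G] (β : S →* ℂˣ) : dgr (linIrr β) = 1 := by
  have h := dgr_spec (linIrr β)
  rw [linIrr_coe] at h
  simp only [map_one, Units.val_one] at h
  exact_mod_cast h.symm

theorem exists_linIrr [Finite G] {α : Cfsg.IrrCharacter S} (h : dgr α = 1) :
    ∃ β : S →* ℂˣ, linIrr β = α :=
  ⟨linearOfDegreeOne (irr_isCharacter α) (by rw [dgr_spec, h, Nat.cast_one]),
    Subtype.ext (funext fun x => linearOfDegreeOne_apply (irr_isCharacter α) _ x)⟩

theorem IsConjFun.dgr_eq [Finite G] {X : Subgroup G} {d : G} {θ θ' : Cfsg.IrrCharacter X}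
    (h : IsConjFun X d (θ : X → ℂ) (θ' : X → ℂ)) : dgr θ' = dgr θ := by
  have h1 := h 1 1 (by simp)
  rw [dgr_spec, dgr_spec] at h1
  exact_mod_cast h1.symm

variable [Fintype G] (sp : Split a Q E S O)
include sp

theorem Split.conjRel_trans {θ θ' θ'' : O → ℂ} (h1 : ConjRel a t θ θ') (h2 : ConjRel a t θ' θ'') :
    ConjRel a t θ θ'' := by
  obtain ⟨d, hd, h1⟩ := h1
  obtain ⟨k, hk, h2⟩ := h2
  refine ⟨d * k, mul_mem hd hk, ?_⟩
  have hX := sp.conj_O k hk.1
  rcases h1 with h1 | h1 <;> rcases h2 with h2 | h2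
  · exact Or.inl (h1.trans hX h2)
  · exact Or.inr (h1.conj.trans hX h2)
  · exact Or.inr (h1.trans hX h2)
  · refine Or.inl ?_
    have h := h1.conj.trans hX h2
    simpa only [Complex.conj_conj] using h

theorem Split.conjRel_symm {θ θ' : O → ℂ} (h : ConjRel a t θ θ') : ConjRel a t θ' θ := by
  obtain ⟨d, hd, h⟩ := h
  refine ⟨d⁻¹, inv_mem hd, h.imp (fun h => h.symm) fun h => ?_⟩
  simpa only [Complex.conj_conj] using h.conj.symm

/-- Regularity is transported along conjugation. -/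
theorem Split.reg_of_conj {α α' : Cfsg.IrrCharacter S} {lam lam' : Cfsg.IrrCharacter O} {d : G}
    (hd : d ∈ D) (hS' : IsConjFun S d (α : S → ℂ) (α' : S → ℂ))
    (hO' : IsConjFun O d (lam : O → ℂ) (lam' : O → ℂ)) (h : Reg a t α' lam') : Reg a t α lam := by
  intro e he h1 h2
  have := h (d⁻¹ * e * d) (mul_mem (mul_mem (inv_mem hd) he) hd)
    ((hS'.symm.trans (sp.conj_S e he.1) h1).trans (sp.conj_S d hd.1) hS')
    ((hO'.symm.trans (sp.conj_O e he.1) h2).trans (sp.conj_O d hd.1) hO')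
  calc e = d * (d⁻¹ * e * d) * d⁻¹ := by group
    _ = 1 := by rw [this]; group

variable [Fintype (MulAction.stabilizer G a)]

open scoped _root_.Classical in
/-- The family over `lam`. -/
noncomputable def Split.bfam (t : G) (lam : Cfsg.IrrCharacter O) :
    Finset (Cfsg.IrrCharacter (MulAction.stabilizer G a)) :=
  letI := sp
  letI := Fintype.ofFinite (Cfsg.IrrCharacter (MulAction.stabilizer G a))
  Finset.univ.filter fun x => ∃ β mu, dgr β = 1 ∧ Reg a t β mu ∧
    (∃ d ∈ MulAction.stabilizer G a ⊓ MulAction.stabilizer G (t • a),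
      IsConjFun O d (lam : O → ℂ) (mu : O → ℂ) ∨
        IsConjFun O d (fun y => conj ((lam : O → ℂ) y)) (mu : O → ℂ)) ∧
    (x : MulAction.stabilizer G a → ℂ) = indQ a Q (sp.prodChar β mu : Q → ℂ)

theorem Split.mem_bfam {lam : Cfsg.IrrCharacter O} {x : Cfsg.IrrCharacter H} :
    x ∈ sp.bfam t lam ↔ ∃ β mu, dgr β = 1 ∧ Reg a t β mu ∧
      (∃ d ∈ D, IsConjFun O d (lam : O → ℂ) (mu : O → ℂ) ∨
        IsConjFun O d (fun y => conj ((lam : O → ℂ) y)) (mu : O → ℂ)) ∧
      (x : H → ℂ) = indQ a Q (sp.prodChar β mu : Q → ℂ) := by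
  classical
  simp [Split.bfam]

variable (hS : Cfsg.IsRankOneSetup G Ω a t Q)
include hS

/-- Two families are equal or disjoint. -/
theorem Split.bfam_eq_or_disjoint (lam lam' : Cfsg.IrrCharacter O) :
    sp.bfam t lam = sp.bfam t lam' ∨ Disjoint (sp.bfam t lam) (sp.bfam t lam') := by
  by_cases h : ∀ x ∈ sp.bfam t lam, x ∉ sp.bfam t lam'
  · exact Or.inr (Finset.disjoint_left.2 fun {x} hx => h x hx)
  push Not at h
  obtain ⟨x, hx, hx'⟩ := h
  obtain ⟨β, mu, -, -, hr, ex⟩ := sp.mem_bfam.1 hx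
  obtain ⟨β', mu', -, -, hr', ex'⟩ := sp.mem_bfam.1 hx'
  obtain ⟨k, hk, -, hkO⟩ := (sp.indQ_eq_iff hS).1 (ex.symm.trans ex')
  have hrel : ConjRel a t (lam : O → ℂ) (lam' : O → ℂ) :=
    sp.conjRel_trans (sp.conjRel_trans hr ⟨k, hk, Or.inl hkO⟩) (sp.conjRel_symm hr')
  refine Or.inl (Finset.ext fun y => ?_)
  rw [sp.mem_bfam, sp.mem_bfam]
  constructor
  · rintro ⟨γ, nu, h1, h2, h3, h4⟩
    exact ⟨γ, nu, h1, h2, sp.conjRel_trans (sp.conjRel_symm hrel) h3, h4⟩
  · rintro ⟨γ, nu, h1, h2, h3, h4⟩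
    exact ⟨γ, nu, h1, h2, sp.conjRel_trans hrel h3, h4⟩

variable (F : Frame a t Q E g n) (hs : s ∈ Cfsg.involutionsIn (MulAction.stabilizer G a : Set G))
  (h2 : ∃ x y : G, x ≠ 1 ∧ y ≠ 1 ∧ x ≠ y ∧ x * x = 1 ∧ y * y = 1 ∧ x * y = y * x)
include F hs h2

/-- The family has even size, at least twice every degree of `S`; differences are supported on the
elements fixing only `a`, and all members have the same value at `s` and the same degree. -/
theorem Split.bfam_spec (red : RedHyp a t E O) (hP : Cfsg.IsSuzukiTwoGroup S)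
    {lam : Cfsg.IrrCharacter O} (hlam : lam ≠ trivIrr O) :
    Even (sp.bfam t lam).card ∧ 2 ≤ (sp.bfam t lam).card ∧
      (∀ α : Cfsg.IrrCharacter S, 2 * dgr α ≤ (sp.bfam t lam).card) ∧
      (∀ x ∈ sp.bfam t lam, ∀ y ∈ sp.bfam t lam, Supp a ((x : H → ℂ) - (y : H → ℂ))) ∧
      (∀ x ∈ sp.bfam t lam, ∀ y ∈ sp.bfam t lam,
        (x : H → ℂ) ⟨s, hs.1⟩ = (y : H → ℂ) ⟨s, hs.1⟩) ∧
      (∀ x ∈ sp.bfam t lam, (x : H → ℂ) 1 = ((Nat.card ↥D * dgr lam : ℕ) : ℂ)) := by
  classical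
  haveI := finite_hom S
  haveI := Fintype.ofFinite (S →* ℂˣ)
  haveI := Fintype.ofFinite (Cfsg.IrrCharacter H)
  obtain ⟨lamC, hlamC⟩ : ∃ lamC : Cfsg.IrrCharacter O,
      (lamC : O → ℂ) = fun y => conj ((lam : O → ℂ) y) :=
    ⟨⟨_, isIrrCharacter_conj lam.2⟩, rfl⟩
  have hlam1 : (lam : O → ℂ) ≠ fun _ => 1 := fun e => hlam (Subtype.ext e)
  have hdC : dgr lamC = dgr lam := by
    have h := dgr_spec lamC
    rw [hlamC] at h
    simp only [dgr_spec lam, map_natCast] at h
    exact_mod_cast h.symm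
  -- the members
  have hmem : ∀ x ∈ sp.bfam t lam, ∃ β mu, dgr β = 1 ∧ dgr mu = dgr lam ∧
      sp.centralChar β = 1 ∧ (x : H → ℂ) = indQ a Q (sp.prodChar β mu : Q → ℂ) := by
    intro x hx
    obtain ⟨β, mu, hβ, -, ⟨d, -, hd⟩, ex⟩ := sp.mem_bfam.1 hx
    refine ⟨β, mu, hβ, ?_, (sp.centralChar_eq_one_iff hS F hP β).2 (by
      rw [dgr_spec, hβ, Nat.cast_one]), ex⟩
    rcases hd with hd | hd
    · exact hd.dgr_eq
    · rw [← hlamC] at hd
      exact hd.dgr_eq.trans hdC
  have hsupp : ∀ x ∈ sp.bfam t lam, ∀ y ∈ sp.bfam t lam, Supp a ((x : H → ℂ) - (y : H → ℂ)) := by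
    intro x hx y hy
    obtain ⟨β, mu, hβ, hmu, -, ex⟩ := hmem x hx
    obtain ⟨β', mu', hβ', hmu', -, ey⟩ := hmem y hy
    rw [ex, ey]
    simpa using sp.supp_diff hS β β' mu mu' 1 (by rw [hβ, hβ', hmu, hmu']; ring)
  have hconst : ∀ x ∈ sp.bfam t lam, ∀ y ∈ sp.bfam t lam,
      (x : H → ℂ) ⟨s, hs.1⟩ = (y : H → ℂ) ⟨s, hs.1⟩ := by
    intro x hx y hy
    obtain ⟨β, mu, hβ, hmu, hc, ex⟩ := hmem x hx
    obtain ⟨β', mu', hβ', hmu', hc', ey⟩ := hmem y hy
    rw [ex, ey]
    exact sp.indQ_at_eq hS F hs (iff_of_true hc hc') (by rw [hβ, hβ', hmu, hmu'])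
  have hone : ∀ x ∈ sp.bfam t lam, (x : H → ℂ) 1 = ((Nat.card ↥D * dgr lam : ℕ) : ℂ) := by
    intro x hx
    obtain ⟨β, mu, hβ, hmu, -, ex⟩ := hmem x hx
    rw [ex, sp.indQ_prod_one hS, hβ, one_mul, hmu]
  -- the regular linear characters
  obtain ⟨T, hT, hfix, hTmem⟩ := sp.exists_stab (sp.nilpotent_O hS h2) red hlam
  have hstab : ∀ d : G, IsConjFun O d (lamC : O → ℂ) (lamC : O → ℂ) ↔
      IsConjFun O d (lam : O → ℂ) (lam : O → ℂ) := fun d => by
    rw [hlamC]
    exact ⟨fun h => by simpa only [Complex.conj_conj] using h.conj, fun h => h.conj⟩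
  set R : Finset (S →* ℂˣ) := Finset.univ.filter fun β => Reg a t (linIrr β) lam with hR
  have hregC : ∀ β : S →* ℂˣ, Reg a t (linIrr β) lamC ↔ Reg a t (linIrr β) lam := fun β =>
    ⟨fun h d hd h1 h2 => h d hd h1 ((hstab d).2 h2), fun h d hd h1 h2 => h d hd h1 ((hstab d).1 h2)⟩
  let f : (S →* ℂˣ) → H → ℂ := fun β => indQ a Q (sp.prodChar (linIrr β) lam : Q → ℂ)
  let f' : (S →* ℂˣ) → H → ℂ := fun β => indQ a Q (sp.prodChar (linIrr β) lamC : Q → ℂ)
  have hker : ∀ β γ, f β = f γ ↔ f' β = f' γ := fun β γ => by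
    simp only [f, f', sp.indQ_eq_iff hS, hstab]
  have himage : (sp.bfam t lam).image Subtype.val = R.image f ∪ R.image f' := by
    ext ψ
    simp only [Finset.mem_image, Finset.mem_union, hR, Finset.mem_filter, Finset.mem_univ, true_and]
    constructor
    · rintro ⟨x, hx, rfl⟩
      obtain ⟨β, mu, hβ, hreg, ⟨d, hd, hdO⟩, ex⟩ := sp.mem_bfam.1 hx
      obtain ⟨γ, hγ⟩ := exists_isConjFun (sp.conj_S d⁻¹ (inv_mem hd.1)) β
      have hγ' : IsConjFun S d (γ : S → ℂ) (β : S → ℂ) := by simpa using hγ.symm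
      obtain ⟨γ₀, rfl⟩ := exists_linIrr (α := γ) (hγ'.dgr_eq.symm.trans hβ)
      rcases hdO with hdO | hdO
      · exact Or.inl ⟨γ₀, sp.reg_of_conj hd hγ' hdO hreg,
          ((sp.indQ_eq_iff hS).2 ⟨d, hd, hγ', hdO⟩).trans ex.symm⟩
      · rw [← hlamC] at hdO
        exact Or.inr ⟨γ₀, (hregC _).1 (sp.reg_of_conj hd hγ' hdO hreg),
          ((sp.indQ_eq_iff hS).2 ⟨d, hd, hγ', hdO⟩).trans ex.symm⟩
    · rintro (⟨β, hβ, rfl⟩ | ⟨β, hβ, rfl⟩)
      · exact ⟨sp.psi hS hβ, (sp.mem_bfam (lam := lam)).2 ⟨_, lam, dgr_linIrr β, hβ,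
          ⟨1, one_mem _, Or.inl (IsConjFun.one _)⟩, rfl⟩, rfl⟩
      · exact ⟨sp.psi hS ((hregC β).2 hβ), (sp.mem_bfam (lam := lam)).2 ⟨_, lamC, dgr_linIrr β, (hregC β).2 hβ,
          ⟨1, one_mem _, Or.inr (by rw [hlamC]; exact IsConjFun.one _)⟩, rfl⟩, rfl⟩
  have hdisj : Disjoint (R.image f) (R.image f') := by
    rw [Finset.disjoint_left]
    intro ψ hψ hψ'
    obtain ⟨β, -, rfl⟩ := Finset.mem_image.1 hψ
    obtain ⟨γ, -, e⟩ := Finset.mem_image.1 hψ'
    obtain ⟨d, hd, -, hdO⟩ := (sp.indQ_eq_iff hS).1 e.symm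
    rw [hlamC] at hdO
    exact not_isConjFun_conj sp.odd_O (hS.odd_card.of_dvd_nat (by
      rw [← Subgroup.orderOf_mk d hd]; exact orderOf_dvd_natCard _)) (sp.conj_O d hd.1) lam.2 hlam1 hdO
  have hff : (R.image f).card = (R.image f').card := by
    have h1 : (R.image fun β => (f β, f' β)).card = (R.image f).card := by
      rw [show R.image f = (R.image fun β => (f β, f' β)).image Prod.fst by
        rw [Finset.image_image]; rfl]
      refine (Finset.card_image_of_injOn fun p hp r hr e => ?_).symm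
      obtain ⟨β, -, rfl⟩ := Finset.mem_image.1 hp
      obtain ⟨γ, -, rfl⟩ := Finset.mem_image.1 hr
      exact Prod.ext e ((hker β γ).1 e)
    rw [← h1, show R.image f' = (R.image fun β => (f β, f' β)).image Prod.snd by
      rw [Finset.image_image]; rfl]
    refine (Finset.card_image_of_injOn fun p hp r hr e => ?_).symm
    obtain ⟨β, -, rfl⟩ := Finset.mem_image.1 hp
    obtain ⟨γ, -, rfl⟩ := Finset.mem_image.1 hr
    exact Prod.ext ((hker β γ).2 e) e
  have hcard : (sp.bfam t lam).card = 2 * (R.image f).card := by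
    rw [← Finset.card_image_of_injective _ Subtype.val_injective,
      himage, Finset.card_union_of_disjoint hdisj, ← hff, two_mul]
  have hfibre : R.card ≤ Nat.card T * (R.image f).card := by
    refine Finset.card_le_mul_card_image R _ fun b _ => ?_
    rw [← Nat.card_eq_finsetCard]
    set Fb := {β ∈ R | f β = b}
    rcases Fb.eq_empty_or_nonempty with he | ⟨β₀, hβ₀⟩
    · rw [he]; simp
    choose d hd hdS hdO using fun β : Fb => (sp.indQ_eq_iff hS).1
      ((Finset.mem_filter.1 hβ₀).2.trans (Finset.mem_filter.1 β.2).2.symm)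
    refine Nat.card_le_card_of_injective
      (fun β => (⟨d β, (hTmem _).2 ⟨hd β, hdO β⟩⟩ : T)) fun β γ e => ?_
    have e' : d β = d γ := congrArg Subtype.val e
    exact Subtype.ext (linIrr_injective
      (Subtype.ext (IsConjFun.unique (sp.conj_S _ (hd β).1) (hdS β) (e' ▸ hdS γ))))
  -- counting
  have hM := sp.card_linear hS F hP
  obtain ⟨hMq, hMpow⟩ : 2 ^ n ≤ Nat.card (S →* ℂˣ) ∧ ∃ m, Nat.card (S →* ℂˣ) = 2 ^ m := by
    rw [hM]
    rcases sp.index_center hS F hP with e | e <;> rw [e]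
    · exact ⟨le_rfl, n, rfl⟩
    · exact ⟨Nat.le_self_pow two_ne_zero _, 2 * n, by rw [← pow_mul, mul_comm]⟩
  have hdeg : ∀ α : Cfsg.IrrCharacter S, dgr α ^ 2 ≤ Nat.card (S →* ℂˣ) := by
    intro α
    obtain ⟨j, hj, hle⟩ := sp.degree_eq hS F hP α
    rw [dgr_spec] at hj
    rw [hM, show dgr α = 2 ^ j by exact_mod_cast hj]
    exact hle
  have hbound : ∀ α : Cfsg.IrrCharacter S, dgr α ≤ (R.image f).card := by
    intro α
    rcases eq_or_ne T ⊥ with hbot | hne
    · have hall : R = Finset.univ := Finset.filter_eq_self.2 fun β _ d hd _ h => by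
        have := (hTmem d).2 ⟨hd, h⟩
        rw [hbot] at this
        exact Subgroup.mem_bot.1 this
      rw [hbot, Subgroup.card_bot, one_mul, hall, Finset.card_univ, ← Nat.card_eq_fintype_card,
        ← hall] at hfibre
      exact le_trans (le_trans (Nat.le_self_pow two_ne_zero _) (hdeg α)) hfibre
    obtain ⟨hnp, hodd, hn3, hTcard, hgen⟩ := (F.small_stab hS hT hfix).resolve_left hne
    obtain ⟨z, hz, hz1⟩ : ∃ z ∈ T, z ≠ 1 := by
      by_contra h
      push Not at h
      exact hne ((Subgroup.eq_bot_iff_forall T).2 h)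
    set C := Nat.card {β : S →* ℂˣ // FixedBy S z β} with hC
    have hC2 : C ^ 2 ≤ Nat.card (S →* ℂˣ) :=
      F.card_fixed_sq sp.le_S (fun d hd x hx => sp.conj_S d hd.1 x hx) (hT hz) (hgen z hz hz1).1
    have hbad : (Finset.univ.filter fun β : S →* ℂˣ => ¬ Reg a t (linIrr β) lam).card ≤ C := by
      rw [hC, Nat.card_eq_fintype_card, Fintype.card_subtype]
      refine Finset.card_le_card fun β hβ => ?_
      rw [Finset.mem_filter] at hβ ⊢
      refine ⟨Finset.mem_univ _, ?_⟩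
      have h := hβ.2
      simp only [Reg, not_forall] at h
      obtain ⟨d, hd, hdβ, hdlam, hd1⟩ := h
      have hdT : d ∈ T := (hTmem d).2 ⟨hd, hdlam⟩
      obtain ⟨-, hzgen, -⟩ := hgen d hdT hd1
      obtain ⟨i, rfl⟩ := Submonoid.mem_powers_iff _ _ |>.mp
        (mem_powers_iff_mem_zpowers.mpr (hzgen.symm ▸ hz : z ∈ Subgroup.zpowers d))
      exact fun x y e => Units.ext ((hdβ.pow (sp.conj_S d hd.1) i) x y e)
    have hsum : R.card + (Finset.univ.filter fun β : S →* ℂˣ => ¬ Reg a t (linIrr β) lam).card =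
        Nat.card (S →* ℂˣ) := by
      rw [hR, Finset.card_filter_add_card_filter_not, Finset.card_univ, ← Nat.card_eq_fintype_card]
    set r := max (dgr α) C with hr
    have hr2 : r ^ 2 ≤ Nat.card (S →* ℂˣ) := by
      rcases max_choice (dgr α) C with h | h <;> rw [hr, h]
      exacts [hdeg α, hC2]
    have hkey := succ_mul_le hn3 hodd hMq hr2 hMpow
    rw [hTcard] at hfibre
    have h1 : dgr α ≤ r := le_max_left _ _
    have h3 : C ≤ r := le_max_right _ _
    have h4 : n * r ≤ n * (R.image f).card := by rw [add_mul, one_mul] at hkey; omega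
    exact h1.trans (Nat.le_of_mul_le_mul_left h4 (by omega))
  refine ⟨⟨(R.image f).card, by rw [hcard, two_mul]⟩, ?_, fun α => ?_, hsupp, hconst, hone⟩
  · have := hbound (trivIrr S)
    have := dgr_pos (trivIrr S)
    omega
  · have := hbound α
    omega

end Cfsg.Agent.Involutions.RankOne.Char
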